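import Cfsg.Agent.SmallSimple.Basic
import Cfsg.Agent.Char.PowPart
import Cfsg.Agent.ZJ.SL2Basic
import Cfsg.Agent.Fusion.NormalCentral.Group
import Cfsg.Agent.S3071

/-!
# Groups of order `q (q² - 1) / d` in which centralizers of `p`-elements have order `q`
-/

set_option autoImplicit false
set_option linter.unusedSectionVars false
set_option linter.style.haveILetI false

namespace CfsgLib.PSLClass

open Subgroup

variable {K : Type*} [Group K] [Finite K] {p f q a d : ℕ}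

/-- The hypotheses on the central quotient. -/
structure Frame (K : Type*) [Group K] (p f q a d : ℕ) : Prop where
  hp : p.Prime
  hf : 0 < f
  hq : q = p ^ f
  hd : d = 1 ∨ d = 2
  hd2 : p = 2 → d = 1
  hda : d * a = q ^ 2 - 1
  hap : ¬ p ∣ a
  card : Nat.card K = q * a
  hC : ∀ k : K, k ≠ 1 → ∀ n : ℕ, k ^ p ^ n = 1 → Nat.card (centralizer ({k} : Set K)) = q

/-- The non-trivial `p`-elements with a given centralizer. -/
abbrev Fib (q : ℕ) (P : Subgroup K) : Type _ := {k : K // k ≠ 1 ∧ k ^ q = 1 ∧ centralizer ({k} : Set K) = P}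

theorem fib_conj (g : K) {P : Subgroup K} {k : K} (hk : k ≠ 1 ∧ k ^ q = 1 ∧ centralizer ({k} : Set K) = P) :
    g * k * g⁻¹ ≠ 1 ∧ (g * k * g⁻¹) ^ q = 1 ∧
      centralizer ({g * k * g⁻¹} : Set K) = P.map (MulAut.conj g).toMonoidHom := by
  refine ⟨fun h => hk.1 (conj_eq_one_iff.1 h), by rw [conj_pow, hk.2.1, mul_one, mul_inv_cancel], ?_⟩
  rw [← hk.2.2]
  ext x
  rw [Subgroup.mem_map_equiv, MulAut.conj_symm_apply, mem_centralizer_singleton_iff, mem_centralizer_singleton_iff]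
  constructor
  · intro h
    calc g⁻¹ * x * g * k = g⁻¹ * (x * (g * k * g⁻¹)) * g := by group
      _ = g⁻¹ * (g * k * g⁻¹ * x) * g := by rw [h]
      _ = k * (g⁻¹ * x * g) := by group
  · intro h
    calc x * (g * k * g⁻¹) = g * (g⁻¹ * x * g * k) * g⁻¹ := by group
      _ = g * (k * (g⁻¹ * x * g)) * g⁻¹ := by rw [h]
      _ = g * k * g⁻¹ * x := by group

namespace Frame

variable (H : Frame K p f q a d)
include H

theorem one_lt_q : 1 < q := H.hq ▸ Nat.one_lt_pow H.hf.ne' H.hp.one_lt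

theorem a_pos : 0 < a := Nat.pos_of_ne_zero fun e => H.hap (e ▸ dvd_zero p)

theorem card_sylow [Fact p.Prime] (P : Sylow p K) : Nat.card (P : Subgroup K) = q := by
  rw [SmallSimple.card_sylow_eq P (k := f) (m := a) (by rw [H.card, H.hq]) H.hap, H.hq]

theorem pow_q [Fact p.Prime] (P : Sylow p K) {k : K} (hk : k ∈ (P : Subgroup K)) : k ^ q = 1 :=
  orderOf_dvd_iff_pow_eq_one.1 (H.card_sylow P ▸ Subgroup.orderOf_dvd_natCard _ hk)

theorem card_C {k : K} (hk : k ≠ 1) (hkq : k ^ q = 1) : Nat.card (centralizer ({k} : Set K)) = q :=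
  H.hC k hk f (H.hq ▸ hkq)

/-- The centralizer of a non-trivial `p`-element as a Sylow subgroup. -/
theorem exists_sylow_C [Fact p.Prime] {k : K} (hk : k ≠ 1) (hkq : k ^ q = 1) :
    ∃ P : Sylow p K, centralizer ({k} : Set K) = (P : Subgroup K) := by
  refine ⟨Sylow.ofCard (centralizer ({k} : Set K)) ?_, (Sylow.coe_ofCard _ _).symm⟩
  obtain ⟨P⟩ : Nonempty (Sylow p K) := inferInstance
  rw [H.card_C hk hkq, ← P.card_eq_multiplicity, H.card_sylow P]

theorem eq_C_of_le [Fact p.Prime] (P : Sylow p K) {k : K} (hk : k ≠ 1) (hkq : k ^ q = 1)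
    (h : (P : Subgroup K) ≤ centralizer ({k} : Set K)) : centralizer ({k} : Set K) = (P : Subgroup K) :=
  (eq_of_le_of_card_ge h (by rw [H.card_C hk hkq, H.card_sylow P])).symm

theorem mem_fib_center [Fact p.Prime] (P : Sylow p K) {k : K} (hk : k ≠ 1 ∧ k ^ q = 1 ∧ centralizer ({k} : Set K) = P) :
    k ∈ (P : Subgroup K) ⊓ centralizer ((P : Subgroup K) : Set K) := by
  refine ⟨hk.2.2 ▸ mem_centralizer_singleton_iff.2 rfl, mem_centralizer_iff.2 fun y hy => ?_⟩
  exact mem_centralizer_singleton_iff.1 (hk.2.2.symm ▸ hy : y ∈ centralizer ({k} : Set K))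

theorem fib_nonempty [Fact p.Prime] (P : Sylow p K) : Nonempty (Fib q (P : Subgroup K)) := by
  haveI : Nontrivial (P : Subgroup K) := (Finite.one_lt_card_iff_nontrivial.1 (H.card_sylow P ▸ H.one_lt_q))
  haveI := P.2.center_nontrivial
  obtain ⟨z, hz⟩ := exists_ne (1 : center (P : Subgroup K))
  have hz1 : ((z : (P : Subgroup K)) : K) ≠ 1 := fun e => hz (Subtype.ext (Subtype.ext e))
  exact ⟨⟨_, hz1, H.pow_q P (z : (P : Subgroup K)).2, H.eq_C_of_le P hz1 (H.pow_q P (z : (P : Subgroup K)).2)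
    fun y hy => mem_centralizer_singleton_iff.2 (congrArg Subtype.val (mem_center_iff.1 z.2 ⟨y, hy⟩))⟩⟩

theorem card_fib_eq [Fact p.Prime] (P Q : Sylow p K) :
    Nat.card (Fib q (P : Subgroup K)) = Nat.card (Fib q (Q : Subgroup K)) := by
  obtain ⟨g, hg⟩ := MulAction.exists_smul_eq K P Q
  refine Nat.card_congr
    { toFun := fun k => ⟨g * k.1 * g⁻¹, (fib_conj g k.2).1, (fib_conj g k.2).2.1, ?_⟩
      invFun := fun k => ⟨g⁻¹ * k.1 * g, ?_⟩
      left_inv := fun k => Subtype.ext (by simp [mul_assoc])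
      right_inv := fun k => Subtype.ext (by simp [mul_assoc]) }
  · rw [(fib_conj g k.2).2.2, ← hg]; rfl
  · have h := fib_conj g⁻¹ k.2
    rw [inv_inv] at h
    refine ⟨h.1, h.2.1, ?_⟩
    rw [h.2.2, ← hg, Sylow.smul_def, Sylow.pointwise_smul_def]
    ext x
    rw [Subgroup.mem_map_equiv, MulAut.conj_symm_apply, Subgroup.mem_pointwise_smul_iff_inv_smul_mem]
    simp [MulAut.smul_def, mul_assoc]

theorem count_pElem [Fact p.Prime] (P : Sylow p K) :
    Nat.card {k : K // k ^ q = 1} = 1 + Nat.card (Sylow p K) * Nat.card (Fib q (P : Subgroup K)) := by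
  classical
  haveI := Fintype.ofFinite (Sylow p K)
  have e1 : {k : K // k ≠ 1 ∧ k ^ q = 1} ≃ Σ Q : Sylow p K, Fib q (Q : Subgroup K) :=
    { toFun := fun k => ⟨(H.exists_sylow_C k.2.1 k.2.2).choose,
        ⟨k.1, k.2.1, k.2.2, (H.exists_sylow_C k.2.1 k.2.2).choose_spec⟩⟩
      invFun := fun x => ⟨x.2.1, x.2.2.1, x.2.2.2.1⟩
      left_inv := fun _ => rfl
      right_inv := fun ⟨Q, k, h1, h2, h3⟩ => by
        have := Sylow.ext ((H.exists_sylow_C h1 h2).choose_spec.symm.trans h3)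
        subst this
        rfl }
  have h2 : Nat.card {k : K // k ≠ 1 ∧ k ^ q = 1} = Nat.card (Sylow p K) * Nat.card (Fib q (P : Subgroup K)) := by
    rw [Nat.card_congr e1, Nat.card_sigma, Finset.sum_const_nat fun Q _ => H.card_fib_eq Q P, Finset.card_univ,
      Nat.card_eq_fintype_card (α := Sylow p K)]
  rw [← h2, add_comm]
  show Nat.card ↥{k : K | k ^ q = 1} = Nat.card ↥{k : K | k ≠ 1 ∧ k ^ q = 1} + 1
  rw [Nat.card_coe_set_eq, Nat.card_coe_set_eq,
    ← Set.ncard_insert_of_notMem (a := (1 : K)) (s := {k : K | k ≠ 1 ∧ k ^ q = 1}) fun h => h.1 rfl]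
  congr 1
  ext k
  by_cases hk : k = 1 <;> simp [hk]

theorem orbit_data [Fact p.Prime] (P : Sylow p K) : ∃ h : ℕ,
    Nat.card (normalizer ((P : Subgroup K) : Set K)) = q * h ∧ h ∣ Nat.card (Fib q (P : Subgroup K)) ∧
      (Nat.card (Fib q (P : Subgroup K)) = h → ∀ k k' : Fib q (P : Subgroup K), ∃ g : K, g * k.1 * g⁻¹ = k'.1) := by
  classical
  set N := normalizer ((P : Subgroup K) : Set K)
  have hmap : ∀ g ∈ N, (P : Subgroup K).map (MulAut.conj g).toMonoidHom = P := by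
    intro g hg
    ext x
    rw [Subgroup.mem_map_equiv, MulAut.conj_symm_apply, mem_normalizer_iff.1 hg, ← mul_assoc, ← mul_assoc,
      mul_inv_cancel, one_mul, mul_inv_cancel_right]
  letI : MulAction N (Fib q (P : Subgroup K)) :=
    { smul := fun g k => ⟨g * k.1 * (g : K)⁻¹, (fib_conj (g : K) k.2).1, (fib_conj (g : K) k.2).2.1,
        (fib_conj (g : K) k.2).2.2.trans (hmap _ g.2)⟩
      one_smul := fun k => Subtype.ext (show ((1 : N) : K) * k.1 * ((1 : N) : K)⁻¹ = k.1 by simp)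
      mul_smul := fun g g' k => Subtype.ext
        (show ((g * g' : N) : K) * k.1 * ((g * g' : N) : K)⁻¹ =
          (g : K) * ((g' : K) * k.1 * (g' : K)⁻¹) * (g : K)⁻¹ by simp [mul_assoc]) }
  have hstab : ∀ k : Fib q (P : Subgroup K), MulAction.stabilizer N k = (P : Subgroup K).subgroupOf N := by
    intro k
    ext g
    rw [MulAction.mem_stabilizer_iff, mem_subgroupOf]
    constructor
    · intro e
      have e' : (g : K) * k.1 * (g : K)⁻¹ = k.1 := congrArg Subtype.val e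
      rw [← k.2.2.2, mem_centralizer_singleton_iff]
      exact mul_inv_eq_iff_eq_mul.1 e'
    · intro hg
      refine Subtype.ext (mul_inv_eq_iff_eq_mul.2 ?_)
      exact mem_centralizer_singleton_iff.1 (k.2.2.2.symm ▸ hg : (g : K) ∈ centralizer ({k.1} : Set K))
  have horb : ∀ k : Fib q (P : Subgroup K),
      Nat.card (MulAction.orbit N k) = ((P : Subgroup K).subgroupOf N).index := fun k => by
    rw [← hstab k, MulAction.index_stabilizer, Nat.card_coe_set_eq]
  refine ⟨((P : Subgroup K).subgroupOf N).index, ?_, ?_, fun hE k k' => ?_⟩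
  · rw [← ((P : Subgroup K).subgroupOf N).card_mul_index,
      Nat.card_congr (subgroupOfEquivOfLe (le_normalizer : (P : Subgroup K) ≤ N)).toEquiv, H.card_sylow P]
  · haveI := Fintype.ofFinite (Quotient (MulAction.orbitRel N (Fib q (P : Subgroup K))))
    rw [Nat.card_congr (MulAction.selfEquivSigmaOrbits N (Fib q (P : Subgroup K))), Nat.card_sigma]
    exact Finset.dvd_sum fun x _ => dvd_of_eq (horb _).symm
  · have : MulAction.orbit N k = Set.univ := Set.eq_univ_of_forall fun x => by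
      by_contra hx
      have hlt : (MulAction.orbit N k).ncard < (Set.univ : Set (Fib q (P : Subgroup K))).ncard :=
        Set.ncard_lt_ncard ⟨Set.subset_univ _, fun h => hx (h (Set.mem_univ x))⟩
      rw [← Nat.card_coe_set_eq, horb, Set.ncard_univ, hE] at hlt
      exact lt_irrefl _ hlt
    obtain ⟨g, hg⟩ := (this ▸ Set.mem_univ k' : k' ∈ MulAction.orbit N k)
    exact ⟨g, congrArg Subtype.val hg⟩

theorem arith [Fact p.Prime] (P : Sylow p K) {h : ℕ} (hN : Nat.card (normalizer ((P : Subgroup K) : Set K)) = q * h)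
    (hdiv : h ∣ Nat.card (Fib q (P : Subgroup K))) :
    d * h = Nat.card (Fib q (P : Subgroup K)) ∧ Nat.card (Sylow p K) * h = a := by
  have hn : Nat.card (Sylow p K) * h = a := by
    have h1 := SmallSimple.card_sylow_mul P
    rw [hN, H.card] at h1
    exact Nat.eq_of_mul_eq_mul_left (by have := H.one_lt_q; omega : 0 < q) (by rw [← h1]; ring)
  refine ⟨?_, hn⟩
  have hdvd : q ∣ 1 + Nat.card (Sylow p K) * Nat.card (Fib q (P : Subgroup K)) := by
    rw [← H.count_pElem P]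
    exact CfsgLib.Char.dvd_card_pow_eq_one (by rw [H.card, mul_comm]) (H.hq ▸
      (((Nat.Prime.coprime_iff_not_dvd H.hp).2 H.hap).pow_left f).symm)
  haveI := H.fib_nonempty P
  have hE0 : 0 < Nat.card (Fib q (P : Subgroup K)) := Nat.card_pos
  have hlt : Nat.card (Fib q (P : Subgroup K)) < q := by
    refine lt_of_lt_of_eq ?_ (H.card_sylow P)
    have hinj : Function.Injective (fun k : Fib q (P : Subgroup K) =>
        (⟨k.1, (H.mem_fib_center P k.2).1⟩ : (P : Subgroup K))) :=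
      fun x y e => Subtype.ext (congrArg (fun z : (P : Subgroup K) => (z : K)) e)
    refine (Nat.card_le_card_of_injective _ hinj).lt_of_ne fun e => ?_
    obtain ⟨k, hk⟩ := ((Nat.bijective_iff_injective_and_card _).2 ⟨hinj, e⟩).2 1
    exact k.2.1 (congrArg Subtype.val hk)
  generalize Nat.card (Fib q (P : Subgroup K)) = E at hdiv hdvd hE0 hlt ⊢
  generalize Nat.card (Sylow p K) = n at hn hdvd
  have hh : h ≤ E := Nat.le_of_dvd hE0 hdiv
  have hh0 : 0 < h := Nat.pos_of_ne_zero fun e => by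
    rw [e, mul_zero] at hn; have := H.a_pos; omega
  have hdaz : (d : ℤ) * (n * h) = (q : ℤ) ^ 2 - 1 := by
    have h1 := H.hda
    rw [← hn] at h1
    have h2 : 1 ≤ q ^ 2 := Nat.one_le_pow _ _ (by have := H.one_lt_q; omega)
    have h3 : d * (n * h) + 1 = q ^ 2 := by omega
    have h4 : ((d * (n * h) + 1 : ℕ) : ℤ) = ((q ^ 2 : ℕ) : ℤ) := by rw [h3]
    push_cast at h4
    linarith
  have key : (q : ℤ) ∣ (d : ℤ) * h - E := by
    obtain ⟨c, hc⟩ := hdvd
    refine ⟨(d : ℤ) * h * c - q * E, ?_⟩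
    have hc' : (1 : ℤ) + n * E = q * c := by exact_mod_cast hc
    linear_combination (d : ℤ) * h * hc' - (E : ℤ) * hdaz
  have hd0 := H.hd
  have e := Int.eq_zero_of_abs_lt_dvd key (by
    rw [abs_lt]
    have : (d : ℤ) * h ≤ 2 * E := by
      rcases hd0 with rfl | rfl <;> push_cast <;> omega
    have : 0 ≤ (d : ℤ) * h := by positivity
    constructor <;> omega)
  exact_mod_cast (sub_eq_zero.1 e)

/-- No section is isomorphic to `SL(2, p)`. -/
theorem no_sl (hp2 : p ≠ 2) (L M : Subgroup K) (hM : (M.subgroupOf L).Normal) :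
    ¬ Nonempty ((L ⧸ M.subgroupOf L) ≃* Matrix.SpecialLinearGroup (Fin 2) (ZMod p)) := by
  rintro ⟨e⟩
  haveI : Fact p.Prime := ⟨H.hp⟩
  set u : Matrix.SpecialLinearGroup (Fin 2) (ZMod p) := CfsgLib.ZJ.upper 1
  set z : Matrix.SpecialLinearGroup (Fin 2) (ZMod p) := -1
  have hu : orderOf u = p := by
    refine orderOf_eq_prime ?_ fun h => ?_
    · rw [CfsgLib.ZJ.upper_pow, ZMod.natCast_self, zero_mul, CfsgLib.ZJ.upper_zero]
    · have := congrArg (fun g : Matrix.SpecialLinearGroup (Fin 2) (ZMod p) => g.1 0 1) h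
      simp [u, CfsgLib.ZJ.upper] at this
  have hz : orderOf z = 2 := by
    refine orderOf_eq_prime ?_ fun h => ?_
    · rw [pow_two]; simp [z]
    · have := congrArg (fun g : Matrix.SpecialLinearGroup (Fin 2) (ZMod p) => g.1 0 0) h
      simp [z] at this
      have h2 : ((2 : ℕ) : ZMod p) = 0 := by push_cast; linear_combination -this
      exact hp2 ((Nat.prime_dvd_prime_iff_eq H.hp Nat.prime_two).1 ((ZMod.natCast_eq_zero_iff _ _).1 h2))
  have hc : Commute z u := by
    show z * u = u * z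
    simp [z]
  have ho : orderOf (z * u) = 2 * p := by
    rw [hc.orderOf_mul_eq_mul_orderOf_of_coprime (by
      rw [hz, hu]; exact (Nat.coprime_primes Nat.prime_two H.hp).2 (Ne.symm hp2)), hz, hu]
  obtain ⟨x, hx⟩ := QuotientGroup.mk'_surjective (M.subgroupOf L) (e.symm (z * u))
  have hd : 2 * p ∣ orderOf (x : K) := by
    rw [Subgroup.orderOf_coe, ← ho, ← MulEquiv.orderOf_eq e.symm, ← hx]
    exact orderOf_map_dvd (QuotientGroup.mk' (M.subgroupOf L)) x
  obtain ⟨w, hwK⟩ : ∃ w : K, orderOf w = 2 * p := by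
    refine ⟨(x : K) ^ (orderOf (x : K) / (2 * p)), ?_⟩
    have h0 : orderOf (x : K) / (2 * p) ≠ 0 :=
      (Nat.div_pos (Nat.le_of_dvd (orderOf_pos _) hd) (by have := H.hp.pos; omega)).ne'
    rw [orderOf_pow' _ h0, Nat.gcd_eq_right (Nat.div_dvd_of_dvd hd), Nat.div_div_self hd (orderOf_pos _).ne']
  have hk : w ^ 2 ≠ 1 := fun h => by
    have := Nat.le_of_dvd two_pos (orderOf_dvd_of_pow_eq_one h)
    have := H.hp.two_le
    omega
  have hkp : (w ^ 2) ^ p ^ 1 = 1 := by rw [pow_one, ← pow_mul, ← hwK, pow_orderOf_eq_one]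
  have h2 : 2 ∣ q := by
    rw [← H.hC _ hk 1 hkp]
    refine (dvd_mul_right 2 p).trans (hwK ▸ Subgroup.orderOf_dvd_natCard _ ?_)
    exact mem_centralizer_singleton_iff.2 ((Commute.refl w).pow_right 2).eq
  rw [H.hq] at h2
  exact hp2 ((Nat.prime_dvd_prime_iff_eq Nat.prime_two H.hp).1 (Nat.prime_two.dvd_of_dvd_pow h2)).symm

theorem orderOf_two [Fact p.Prime] (hp : p = 2) {y : K} (hy : y ≠ 1) (hyq : y ^ q = 1) : y * y = 1 := by
  obtain ⟨Q, hQ⟩ := H.exists_sylow_C hy hyq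
  obtain ⟨h, hN, hdiv, htr⟩ := H.orbit_data Q
  obtain ⟨hdh, -⟩ := H.arith Q hN hdiv
  rw [H.hd2 hp, one_mul] at hdh
  let k : Fib q (Q : Subgroup K) := ⟨y, hy, hyq, hQ⟩
  obtain ⟨i, hi, ho⟩ := (Nat.dvd_prime_pow H.hp).1 (H.hq ▸ orderOf_dvd_of_pow_eq_one hyq)
  obtain ⟨i, rfl⟩ : ∃ j, i = j + 1 := ⟨i - 1, by
    have : i ≠ 0 := by rintro rfl; rw [pow_zero, orderOf_eq_one_iff] at ho; exact hy ho
    omega⟩
  have hz : y ^ p ^ i ≠ 1 := fun e => by
    have := Nat.le_of_dvd (pow_pos H.hp.pos i) (ho ▸ orderOf_dvd_of_pow_eq_one e)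
    exact absurd this (not_le.2 (Nat.pow_lt_pow_right H.hp.one_lt (Nat.lt_succ_self i)))
  have hz2 : (y ^ p ^ i) ^ 2 = 1 := by
    rw [← pow_mul, show p ^ i * 2 = p ^ (i + 1) by rw [pow_succ, hp], ← ho, pow_orderOf_eq_one]
  have hzq : (y ^ p ^ i) ^ q = 1 := by rw [← pow_mul, mul_comm, pow_mul, hyq, one_pow]
  have hle : (Q : Subgroup K) ≤ centralizer ({y ^ p ^ i} : Set K) := fun v hv =>
    mem_centralizer_singleton_iff.2 ((show Commute v y from
      mem_centralizer_singleton_iff.1 (hQ.symm ▸ hv : v ∈ centralizer ({y} : Set K))).pow_right _).eq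
  obtain ⟨g, hg⟩ := htr hdh.symm ⟨_, hz, hzq, H.eq_C_of_le Q hz hzq hle⟩ k
  calc y * y = (g * y ^ p ^ i * g⁻¹) * (g * y ^ p ^ i * g⁻¹) := by rw [hg]
    _ = g * (y ^ p ^ i) ^ 2 * g⁻¹ := by rw [pow_two]; group
    _ = 1 := by rw [hz2, mul_one, mul_inv_cancel]

theorem comm_sylow [Fact p.Prime] (P : Sylow p K) : IsMulCommutative (P : Subgroup K) := by
  classical
  by_cases hp : p = 2
  · have key : ∀ v : (P : Subgroup K), (v : K) * v = 1 := fun v => by
      by_cases h : (v : K) = 1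
      · rw [h, one_mul]
      · exact H.orderOf_two hp h (H.pow_q P v.2)
    refine ⟨⟨fun u v => Subtype.ext ?_⟩⟩
    have h1 := key (u * v)
    have h2 := inv_eq_of_mul_eq_one_right (key u)
    have h3 := inv_eq_of_mul_eq_one_right (key v)
    rw [← Subgroup.coe_inv] at h2 h3
    push_cast at h1 h2 h3 ⊢
    calc (u : K) * v = ((u : K) * v)⁻¹ := (inv_eq_of_mul_eq_one_right h1).symm
      _ = (v : K) * u := by rw [mul_inv_rev, h2, h3]
  set W := Cfsg.centerThompsonAOf (P : Subgroup K)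
  have hfree : ∀ P' : Subgroup K, (P : Subgroup K) ⊓ centralizer ((P : Subgroup K) : Set K) ≤ P' → P' ≤ P →
      ¬ ∃ (L M : Subgroup K) (hM : (M.subgroupOf L).Normal), L ≤ normalizer (P' : Set K) ∧
        Nonempty ((L ⧸ M.subgroupOf L) ≃* Matrix.SpecialLinearGroup (Fin 2) (ZMod p)) := by
    rintro P' - - ⟨L, M, hM, -, he⟩
    exact H.no_sl hp L M hM he
  have hle : (P : Subgroup K) ≤ W := by
    intro y hy
    by_cases hy1 : y = 1
    · rw [hy1]; exact one_mem _
    obtain ⟨Q, hQ⟩ := H.exists_sylow_C hy1 (H.pow_q P hy)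
    obtain ⟨g, hg⟩ := MulAction.exists_smul_eq K Q P
    have hy' := fib_conj g (⟨hy1, H.pow_q P hy, hQ⟩ : y ≠ 1 ∧ y ^ q = 1 ∧ _)
    have hy'' : g * y * g⁻¹ ≠ 1 ∧ (g * y * g⁻¹) ^ q = 1 ∧ centralizer ({g * y * g⁻¹} : Set K) = P :=
      ⟨hy'.1, hy'.2.1, hy'.2.2.trans (by rw [← hg]; rfl)⟩
    have hmem := H.mem_fib_center P hy''
    obtain ⟨n, hn, hny⟩ := (Cfsg.Agent.S3071.result hp P hfree y hy _ hmem.1).1 ⟨g, rfl⟩
    have hW : g * y * g⁻¹ ∈ W := ⟨CfsgLib.NormalCentral.center_le_thompsonAOf _ hmem,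
      Subgroup.centralizer_le (SetLike.coe_subset_coe.2 (CfsgLib.NormalCentral.thompsonAOf_le _)) hmem.2⟩
    rw [← hny] at hW
    exact (mem_normalizer_iff.1 hn y).2 hW
  exact ⟨⟨fun u v => Subtype.ext (mem_centralizer_iff.1 (hle v.2).2 u (hle u.2).1)⟩⟩

theorem C_eq [Fact p.Prime] (P : Sylow p K) {x : K} (hx : x ∈ (P : Subgroup K)) (hx1 : x ≠ 1) :
    centralizer ({x} : Set K) = (P : Subgroup K) := by
  haveI := H.comm_sylow P
  exact H.eq_C_of_le P hx1 (H.pow_q P hx) fun v hv =>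
    mem_centralizer_singleton_iff.2 (congrArg Subtype.val (mul_comm' (⟨v, hv⟩ : (P : Subgroup K)) ⟨x, hx⟩))

theorem sylow_data [Fact p.Prime] (P : Sylow p K) :
    (normalizer ((P : Subgroup K) : Set K)).index = q + 1 ∧
      d * Nat.card (normalizer ((P : Subgroup K) : Set K)) = q * (q - 1) := by
  obtain ⟨h, hN, hdiv, -⟩ := H.orbit_data P
  obtain ⟨hdh, hn⟩ := H.arith P hN hdiv
  have hE : Nat.card (Fib q (P : Subgroup K)) = q - 1 := by
    classical
    haveI := Fintype.ofFinite (P : Subgroup K)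
    have e : Fib q (P : Subgroup K) ≃ {x : (P : Subgroup K) // x ≠ 1} :=
      { toFun := fun k => ⟨⟨k.1, (H.mem_fib_center P k.2).1⟩, fun e => k.2.1 (congrArg Subtype.val e)⟩
        invFun := fun x => ⟨x.1.1, fun e => x.2 (Subtype.ext e), H.pow_q P x.1.2,
          H.C_eq P x.1.2 fun e => x.2 (Subtype.ext e)⟩
        left_inv := fun _ => rfl
        right_inv := fun _ => rfl }
    rw [Nat.card_congr e, Nat.card_eq_fintype_card, Fintype.card_subtype_compl, Fintype.card_subtype_eq,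
      ← Nat.card_eq_fintype_card, H.card_sylow P]
  rw [hE] at hdh
  have hq1 := H.one_lt_q
  refine ⟨?_, by rw [hN, ← hdh]; ring⟩
  rw [show (normalizer ((P : Subgroup K) : Set K)).index = Nat.card (Sylow p K) from
    (Sylow.card_eq_index_normalizer P).symm]
  refine Nat.eq_of_mul_eq_mul_left (show 0 < q - 1 by omega) ?_
  calc (q - 1) * Nat.card (Sylow p K) = d * (Nat.card (Sylow p K) * h) := by rw [← hdh]; ring
    _ = q ^ 2 - 1 := by rw [hn, H.hda]
    _ = (q - 1) * (q + 1) := by rw [mul_comm, ← Nat.sq_sub_sq q 1]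

end Frame

end CfsgLib.PSLClass
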