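import Cfsg.Agent.PSLClass.Structure
import Cfsg.Agent.PSLClass.Frame
import Cfsg.Agent.GLElem.PSL2Classes
import Cfsg.Agent.Classical.SylowTwoDim
import Cfsg.Agent.Classical.Transvections
import Cfsg.Agent.Dickson.SylowTwo
import Cfsg.Agent.S0276
import Cfsg.Agent.Transfer.Basic
import Mathlib.GroupTheory.Transfer

/-!
# The central extension splits
-/

set_option autoImplicit false
set_option linter.unusedSectionVars false
set_option linter.style.haveILetI false

namespace CfsgLib.PSLClass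

open Subgroup
open CfsgLib.Linear.SmallSub (proj P2)

section PSL

variable {F : Type*} [Field F] [Fintype F]

open CfsgLib.SL2C CfsgLib.PSL2Classes in
/-- An element of the class size of the involutions is an involution. -/
theorem involution_of_index (hodd : Odd (Fintype.card F)) (h7 : 7 ≤ Fintype.card F) {y : P2 F}
    (h : 2 * (centralizer ({y} : Set (P2 F))).index =
      if Fintype.card F % 4 = 1 then Fintype.card F * (Fintype.card F + 1)
      else Fintype.card F * (Fintype.card F - 1)) : y * y = 1 ∧ y ≠ 1 := by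
  classical
  obtain ⟨g, rfl⟩ := CfsgLib.Linear.FourGroups.proj_surj y
  by_cases ht : (mt g).trace = 0
  · exact (CfsgLib.Linear.FourGroups.proj_involution_iff hodd g).2 ht
  exfalso
  rw [index_proj g fun x => commute_of_proj (Or.inr ht)] at h
  have hsq := sq_sub_one (F := F)
  obtain ⟨k, hk⟩ : ∃ k, Fintype.card F = 2 * k + 1 := hodd
  rcases cases4 g with hc | ⟨a, ha, hc⟩ | ⟨e, b, he, hb, hc⟩ | hc
  · rw [Subgroup.index_eq_one.2 (by
      rw [Subgroup.centralizer_eq_top_iff_subset, Set.singleton_subset_iff]; exact hc)] at h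
    split_ifs at h <;> nlinarith [show 1 ≤ Fintype.card F - 1 by omega]
  · rw [← index_eq_of_isConj hc, index_dg ha] at h
    split_ifs at h <;> nlinarith [show Fintype.card F - 1 + 1 = Fintype.card F by omega]
  · have hb' := index_bor he hb
    rw [card_sgn_odd ⟨k, hk⟩] at hb'
    rw [← index_eq_of_isConj hc, mul_comm 2, hb', hsq] at h
    split_ifs at h <;> nlinarith [show Fintype.card F - 1 + 1 = Fintype.card F by omega]
  · rw [index_ell hc] at h
    split_ifs at h <;> nlinarith [show Fintype.card F - 1 + 1 = Fintype.card F by omega]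

/-- A Sylow two-subgroup is generated by two involutions. -/
theorem sylow_two_gen (hodd : Odd (Fintype.card F)) (h7 : 7 ≤ Fintype.card F) (Q : Sylow 2 (P2 F)) :
    ∃ a b : P2 F, a ∈ (Q : Subgroup (P2 F)) ∧ b ∈ (Q : Subgroup (P2 F)) ∧ a * a = 1 ∧ b * b = 1 ∧
      (∃ n, orderOf (a * b) = 2 ^ (n + 1)) ∧ (Q : Subgroup (P2 F)) ≤ closure {a, b} := by
  classical
  suffices H : ∀ a b : (Q : Subgroup (P2 F)), a * a = 1 → b * b = 1 →
      (∃ n, orderOf (a * b) = 2 ^ (n + 1)) → closure {a, b} = ⊤ →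
      ∃ a b : P2 F, a ∈ (Q : Subgroup (P2 F)) ∧ b ∈ (Q : Subgroup (P2 F)) ∧ a * a = 1 ∧ b * b = 1 ∧
      (∃ n, orderOf (a * b) = 2 ^ (n + 1)) ∧ (Q : Subgroup (P2 F)) ≤ closure {a, b} by
    have hF : Fintype.card F % 2 = 1 := Nat.odd_iff.1 hodd
    by_cases h8 : Fintype.card F % 8 = 3 ∨ Fintype.card F % 8 = 5
    · haveI := Cfsg.Agent.S0276.result (F := F) rfl h8 Q
      have h4 : Nat.card (Q : Subgroup (P2 F)) = 4 := IsKleinFour.card_four
      haveI : Nontrivial (Q : Subgroup (P2 F)) := Finite.one_lt_card_iff_nontrivial.1 (by omega)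
      obtain ⟨a, ha⟩ := exists_ne (1 : (Q : Subgroup (P2 F)))
      obtain ⟨b, hb, hba⟩ : ∃ b : (Q : Subgroup (P2 F)), b ≠ 1 ∧ b ≠ a := by
        by_contra hcon
        have hs : (Set.univ : Set (Q : Subgroup (P2 F))) ⊆ {1, a} := fun b _ => by
          by_contra hb
          simp only [Set.mem_insert_iff, Set.mem_singleton_iff, not_or] at hb
          exact hcon ⟨b, hb.1, hb.2⟩
        have h2 := Set.ncard_le_ncard hs (Set.toFinite _)
        rw [Set.ncard_univ, h4, Set.ncard_pair ha.symm] at h2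
        omega
      have hab : a * b ≠ 1 := fun e => hba
        ((inv_eq_of_mul_eq_one_right e).symm.trans (inv_eq_of_mul_eq_one_right (IsKleinFour.mul_self a)))
      refine H a b (IsKleinFour.mul_self a) (IsKleinFour.mul_self b) ⟨0, ?_⟩ ?_
      · rw [zero_add, pow_one]
        exact orderOf_eq_prime (by rw [pow_two]; exact IsKleinFour.mul_self _) hab
      refine eq_top_of_le_card _ ?_
      have h1 := card_subgroup_dvd_card (closure ({a, b} : Set (Q : Subgroup (P2 F))))
      rw [h4] at h1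
      have hs : ({1, a, b} : Set (Q : Subgroup (P2 F))) ⊆ closure {a, b} := by
        rintro x (rfl | rfl | rfl)
        · exact one_mem _
        · exact subset_closure (Set.mem_insert _ _)
        · exact subset_closure (Set.mem_insert_of_mem _ rfl)
      have h2 := Set.ncard_le_ncard hs (Set.toFinite _)
      rw [Set.ncard_eq_three.2 ⟨1, a, b, ha.symm, hb.symm, hba.symm, rfl⟩, ← Nat.card_coe_set_eq] at h2
      change 3 ≤ Nat.card (closure ({a, b} : Set (Q : Subgroup (P2 F)))) at h2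
      rw [h4]
      have h3 := Nat.le_of_dvd (by norm_num) h1
      interval_cases hc : Nat.card (closure ({a, b} : Set (Q : Subgroup (P2 F)))) <;> omega
    · obtain ⟨n, hn, ⟨φ⟩⟩ := CfsgLib.Dickson.exists_sylow_two_dihedral
        (by rw [Nat.card_eq_fintype_card]; exact hodd) (by rw [Nat.card_eq_fintype_card]; omega) Q
      refine H (φ.symm (DihedralGroup.sr 0)) (φ.symm (DihedralGroup.sr 1))
        (by rw [← map_mul, DihedralGroup.sr_mul_self, map_one])
        (by rw [← map_mul, DihedralGroup.sr_mul_self, map_one]) ⟨n - 1, ?_⟩ ?_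
      · rw [← map_mul, MulEquiv.orderOf_eq, DihedralGroup.sr_mul_sr, sub_zero, DihedralGroup.orderOf_r_one,
          Nat.sub_add_cancel (by omega)]
      · suffices hD : closure ({DihedralGroup.sr 0, DihedralGroup.sr 1} : Set (DihedralGroup (2 ^ n))) = ⊤ by
          rw [← Set.image_pair φ.symm, ← MulEquiv.coe_toMonoidHom, ← MonoidHom.map_closure, hD,
            map_top_of_surjective _ φ.symm.surjective]
        rw [eq_top_iff]
        rintro x -
        set S := closure ({DihedralGroup.sr 0, DihedralGroup.sr 1} : Set (DihedralGroup (2 ^ n)))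
        have h0 : DihedralGroup.sr 0 ∈ S := subset_closure (Set.mem_insert _ _)
        have h1 : DihedralGroup.r (1 : ZMod (2 ^ n)) ∈ S := by
          have := S.mul_mem h0 (subset_closure (Set.mem_insert_of_mem _ rfl) : DihedralGroup.sr 1 ∈ S)
          rwa [DihedralGroup.sr_mul_sr, sub_zero] at this
        have hr : ∀ i : ZMod (2 ^ n), DihedralGroup.r i ∈ S := fun i => by
          rw [← ZMod.natCast_zmod_val i, ← DihedralGroup.r_one_pow]
          exact S.pow_mem h1 _
        cases x with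
        | r i => exact hr i
        | sr i =>
          have := S.mul_mem h0 (hr i)
          rwa [DihedralGroup.sr_mul_r, zero_add] at this
  intro a b ha hb hn hcl
  obtain ⟨n, hn⟩ := hn
  refine ⟨a, b, a.2, b.2, ?_, ?_, ⟨n, ?_⟩, ?_⟩
  · rw [← Subgroup.coe_mul, ha, Subgroup.coe_one]
  · rw [← Subgroup.coe_mul, hb, Subgroup.coe_one]
  · rw [← Subgroup.coe_mul, Subgroup.orderOf_coe, hn]
  · intro x hx
    have h1 : (⟨x, hx⟩ : (Q : Subgroup (P2 F))) ∈ closure ({a, b} : Set (Q : Subgroup (P2 F))) := hcl ▸ mem_top _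
    have h2 := mem_map_of_mem (Q : Subgroup (P2 F)).subtype h1
    rw [MonoidHom.map_closure, Set.image_pair] at h2
    simpa using h2

theorem isPerfect_P2 (h4 : 4 ≤ Fintype.card F) : commutator (P2 F) = ⊤ := by
  classical
  obtain ⟨x, -, hx⟩ := Finset.exists_mem_notMem_of_card_lt_card (s := ({0, 1, -1} : Finset F)) (t := Finset.univ)
    (lt_of_le_of_lt Finset.card_le_three (by rw [Finset.card_univ]; omega))
  simp only [Finset.mem_insert, Finset.mem_singleton, not_or] at hx
  have h : 3 ≤ Fintype.card (Fin 2) ∨ ∃ x : F, x ≠ 0 ∧ x ^ 2 ≠ 1 :=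
    Or.inr ⟨x, hx.1, fun e => (sq_eq_one_iff.1 e).elim hx.2.1 hx.2.2⟩
  haveI : Group.IsPerfect (Matrix.SpecialLinearGroup (Fin 2) F) := ⟨CfsgLib.Linear.commutator_SL_eq_top h⟩
  exact (inferInstance : Group.IsPerfect (P2 F)).commutator_eq_top

end PSL

section Ext

variable {G : Type*} [Group G] [Finite G] {F : Type*} [Field F] [Fintype F] {f : G →* P2 F}

theorem comm_iff (hk : f.ker = center G) {c t : G} :
    f c * f t = f t * f c ↔ (c : G ⧸ center G) * t = t * c := by
  rw [← map_mul, ← map_mul, ← QuotientGroup.mk_mul, ← QuotientGroup.mk_mul, MonoidHom.eq_iff, hk, QuotientGroup.eq]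
  constructor <;> intro h
  · have := (center G).inv_mem h
    rwa [mul_inv_rev, inv_inv] at this
  · have := (center G).inv_mem h
    rwa [mul_inv_rev, inv_inv] at this

theorem map_center (hk : f.ker = center G) {z : G} (hz : z ∈ center G) : f z = 1 := by
  rwa [← MonoidHom.mem_ker, hk]

/-- Lifts of involutions commute with what commutes with them modulo the centre. -/
theorem lift_involution (hf : Function.Surjective f) (hk : f.ker = center G) (hodd : Odd (Fintype.card F))
    (h7 : 7 ≤ Fintype.card F) {z : G} (hz : z ∉ center G)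
    (hzi : 2 * cs z = if Fintype.card F % 4 = 1 then Fintype.card F * (Fintype.card F + 1)
      else Fintype.card F * (Fintype.card F - 1))
    (hiso : ∀ y : P2 F, y ≠ 1 → (centralizer ({y} : Set (P2 F))).index ∣ cs z →
      (centralizer ({y} : Set (P2 F))).index = cs z)
    {t c : G} (ht : f t * f t = 1) (ht1 : f t ≠ 1) (hc : f c * f t = f t * f c) : c * t = t * c := by
  have hz1 : f z ≠ 1 := fun e => hz (hk ▸ MonoidHom.mem_ker.2 e)
  have hle : C z ≤ (centralizer ({f z} : Set (P2 F))).comap f := fun x hx => by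
    rw [mem_comap, mem_centralizer_singleton_iff, ← map_mul, ← map_mul, mem_C.1 hx]
  have hi : ((centralizer ({f z} : Set (P2 F))).comap f).index = cs z := by
    rw [index_comap_of_surjective _ hf]
    exact hiso _ hz1 (index_comap_of_surjective (centralizer ({f z} : Set (P2 F))) hf ▸ index_dvd_of_le hle)
  have hCz : C z = (centralizer ({f z} : Set (P2 F))).comap f := by
    refine eq_of_le_of_card_ge hle ?_
    have h1 := ((centralizer ({f z} : Set (P2 F))).comap f).card_mul_index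
    rw [hi, ← (C z).card_mul_index] at h1
    exact le_of_eq (Nat.eq_of_mul_eq_mul_right (Nat.pos_of_ne_zero index_ne_zero_of_finite) h1)
  obtain ⟨hzz, -⟩ := involution_of_index hodd h7 (y := f z) (by
    rw [← index_comap_of_surjective _ hf, hi, hzi])
  obtain ⟨k, hk'⟩ := isConj_iff.1 (CfsgLib.Linear.FourGroups.involutions_conj hodd hzz hz1 ht ht1)
  obtain ⟨g, rfl⟩ := hf k
  have hζ : (g * z * g⁻¹)⁻¹ * t ∈ center G := by
    rw [← hk, MonoidHom.mem_ker]
    simp only [map_mul, map_inv, hk']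
    group
  have hgc : g⁻¹ * c * g ∈ C z := by
    rw [hCz, mem_comap, mem_centralizer_singleton_iff]
    simp only [map_mul, map_inv]
    rw [← hk'] at hc
    calc (f g)⁻¹ * f c * f g * f z = (f g)⁻¹ * (f c * (f g * f z * (f g)⁻¹)) * f g := by group
      _ = (f g)⁻¹ * (f g * f z * (f g)⁻¹ * f c) * f g := by rw [hc]
      _ = f z * ((f g)⁻¹ * f c * f g) := by group
  have h1 : c * (g * z * g⁻¹) = g * z * g⁻¹ * c := by
    calc c * (g * z * g⁻¹) = g * (g⁻¹ * c * g * z) * g⁻¹ := by group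
      _ = g * (z * (g⁻¹ * c * g)) * g⁻¹ := by rw [mem_C.1 hgc]
      _ = g * z * g⁻¹ * c := by group
  have h2 := mem_center_iff.1 hζ c
  rw [show t = g * z * g⁻¹ * ((g * z * g⁻¹)⁻¹ * t) by group]
  generalize (g * z * g⁻¹)⁻¹ * t = ζ at h2 ⊢
  rw [← mul_assoc, h1, mul_assoc, h2, ← mul_assoc]

theorem eq_one_of_two (hf : Function.Surjective f) (hk : f.ker = center G) (hodd : Odd (Fintype.card F))
    (h7 : 7 ≤ Fintype.card F)
    (hP : ∀ t c : G, f t * f t = 1 → f t ≠ 1 → f c * f t = f t * f c → c * t = t * c)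
    [Fact (Nat.Prime 2)] (R : Sylow 2 G) {u : G} (hu : u ∈ (R : Subgroup G)) (huc : u ∈ commutator G)
    (huz : u ∈ center G) : u = 1 := by
  classical
  obtain ⟨a, b, haR, hbR, ha, hb, ⟨n, hn⟩, hgen⟩ := sylow_two_gen hodd h7 (R.mapSurjective hf)
  obtain ⟨A, hA, rfl⟩ := haR
  obtain ⟨B, hB, rfl⟩ := hbR
  have hz : ∀ {v : G}, v ∈ center G → ∀ g : G, g * v = v * g := fun h => mem_center_iff.1 h
  have hA2 : A * A ∈ center G := by rw [← hk, MonoidHom.mem_ker, map_mul, ha]
  have hB2 : B * B ∈ center G := by rw [← hk, MonoidHom.mem_ker, map_mul, hb]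
  set z0 := A * A * (B * B)
  have hz0 : z0 ∈ center G := (center G).mul_mem hA2 hB2
  set x := A * B with hx
  set N := 2 ^ n
  have hfx : orderOf (f x) = 2 * N := by rw [hx, map_mul, hn, pow_succ']
  have hz0A : A * x * A⁻¹ = z0 * x⁻¹ := by
    have e : z0 * x⁻¹ = A * A * (B * B) * (B⁻¹ * A⁻¹) := by simp only [z0, x, mul_inv_rev]
    rw [e]; simp only [x]; group
  have hz0B : B * x * B⁻¹ = z0 * x⁻¹ := by
    have e : z0 * x⁻¹ = A * A * (B * B) * (B⁻¹ * A⁻¹) := by simp only [z0, x, mul_inv_rev]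
    rw [e]; simp only [x]
    calc B * (A * B) * B⁻¹ = B * (A * A) * A⁻¹ := by group
      _ = A * A * B * A⁻¹ := by rw [hz hA2 B]
      _ = A * A * (B * B) * (B⁻¹ * A⁻¹) := by group
  set w := x * x * z0⁻¹
  have hcz : ∀ v : G, Commute z0 v := fun v => (hz hz0 v).symm
  have hinv : ∀ g : G, g * x * g⁻¹ = z0 * x⁻¹ → g * w * g⁻¹ = w⁻¹ := by
    intro g hg
    calc g * w * g⁻¹ = (g * x * g⁻¹) * (g * x * g⁻¹) * (g * z0⁻¹ * g⁻¹) := by simp only [w]; group
      _ = z0 * x⁻¹ * (z0 * x⁻¹) * z0⁻¹ := by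
        rw [hg, show g * z0⁻¹ * g⁻¹ = z0⁻¹ by rw [hz ((center G).inv_mem hz0) g]; group]
      _ = z0 * x⁻¹ * x⁻¹ * (z0 * z0⁻¹) := by
        rw [show z0 * x⁻¹ * (z0 * x⁻¹) = z0 * x⁻¹ * (x⁻¹ * z0) by rw [(hcz x⁻¹).eq]]
        group
      _ = w⁻¹ := by simp only [w]; group
  have hwN : w ^ N = 1 := by
    have h1 : f (x ^ N) * f (x ^ N) = 1 := by
      rw [← pow_two, map_pow, ← pow_mul, mul_comm, ← hfx, pow_orderOf_eq_one]
    have h2 : f (x ^ N) ≠ 1 := fun e => by
      rw [map_pow] at e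
      have := Nat.le_of_dvd (Nat.two_pow_pos n) (orderOf_dvd_of_pow_eq_one e)
      have := Nat.two_pow_pos n
      omega
    have h3 : f A * f x * (f A)⁻¹ = (f x)⁻¹ := by
      rw [← map_inv, ← map_mul, ← map_mul, hz0A, map_mul, map_center hk hz0, one_mul, map_inv]
    have h4 : f A * f (x ^ N) = f (x ^ N) * f A := by
      have e := congrArg (fun v => v ^ N) h3
      simp only [conj_pow, inv_pow] at e
      rw [map_pow]
      rw [mul_inv_eq_iff_eq_mul] at e
      rw [e]
      congr 1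
      exact inv_eq_of_mul_eq_one_right (by rw [← map_pow]; exact h1)
    have h5 := hP (x ^ N) A h1 h2 h4
    have h6 : x ^ N = z0 ^ N * (x ^ N)⁻¹ := by
      have e := congrArg (fun v => v ^ N) hz0A
      simp only [conj_pow, (hcz x⁻¹).mul_pow, inv_pow] at e
      rw [← e, h5, mul_inv_cancel_right]
    have h7 : x ^ N * x ^ N = z0 ^ N := by
      nth_rw 1 [h6]
      rw [inv_mul_cancel_right]
    simp only [w]
    rw [((hcz (x * x)).symm.inv_right).mul_pow, (Commute.refl x).mul_pow, h7, inv_pow, mul_inv_cancel]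
  set S := zpowers w
  have hdisj : S ⊓ center G = ⊥ := by
    rw [eq_bot_iff]
    rintro v ⟨hv, hvz⟩
    obtain ⟨i, rfl⟩ := mem_zpowers_iff.1 hv
    have hfw : orderOf (f w) = N := by
      simp only [w]
      rw [map_mul, map_inv, map_center hk hz0, inv_one, mul_one, map_mul, ← pow_two,
        orderOf_pow' _ two_ne_zero, hfx, Nat.gcd_mul_right_left, Nat.mul_div_cancel_left _ two_pos]
    have h1 : (f w) ^ i = 1 := by rw [← map_zpow]; exact map_center hk hvz
    obtain ⟨j, hj⟩ := orderOf_dvd_iff_zpow_eq_one.2 h1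
    rw [hfw] at hj
    rw [mem_bot, hj, zpow_mul, zpow_natCast, hwN, one_zpow]
  set T := normalizer (S : Set G)
  have hAT : A ∈ T ∧ B ∈ T := by
    have key : ∀ g : G, g * x * g⁻¹ = z0 * x⁻¹ → g ∈ T := by
      intro g hg
      have e : S.map (MulAut.conj g).toMonoidHom = S := by
        simp only [S, MonoidHom.map_zpowers, MulEquiv.coe_toMonoidHom, MulAut.conj_apply, hinv g hg, zpowers_inv]
      rw [mem_normalizer_iff]
      intro v
      constructor
      · intro hv
        rw [← e]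
        exact ⟨v, hv, rfl⟩
      · intro hv
        rw [← e] at hv
        obtain ⟨v', hv', hh⟩ := hv
        rwa [← (MulAut.conj g).injective (hh.trans (MulAut.conj_apply g v).symm)]
    exact ⟨key A hz0A, key B hz0B⟩
  have hZT : ∀ v ∈ center G, v ∈ T := fun v hv => mem_normalizer_iff.2 fun y => by
    rw [← hz hv y, mul_inv_cancel_right]
  let φ := QuotientGroup.mk' (S.subgroupOf T)
  set k : Set (T ⧸ S.subgroupOf T) := {y | ∃ v : T, ((v : G) = A ∨ (v : G) = B ∨ (v : G) ∈ center G) ∧ φ v = y}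
  have hwAB : A * B * A⁻¹ * B⁻¹ = w := by
    simp only [w, x, z0]
    calc A * B * A⁻¹ * B⁻¹ = A * B * A * (A * A)⁻¹ * B * (B * B)⁻¹ := by group
      _ = A * B * A * (B * (A * A)⁻¹) * (B * B)⁻¹ := by rw [hz ((center G).inv_mem hA2) B]; group
      _ = A * B * (A * B) * ((A * A)⁻¹ * (B * B)⁻¹) := by group
      _ = A * B * (A * B) * (A * A * (B * B))⁻¹ := by
        rw [mul_inv_rev (A * A) (B * B), hz ((center G).inv_mem hA2) (B * B)⁻¹]
  have hk2 : ∀ y ∈ k, ∀ y' ∈ k, y * y' = y' * y := by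
    have aux : ∀ v v' : T, (v : G) * v' * (v : G)⁻¹ * (v' : G)⁻¹ ∈ S → φ v * φ v' = φ v' * φ v := by
      intro v v' h
      have : φ (v * v' * v⁻¹ * v'⁻¹) = 1 := (QuotientGroup.eq_one_iff _).2 (mem_subgroupOf.2 h)
      simp only [map_mul, map_inv] at this
      rwa [mul_inv_eq_one, mul_inv_eq_iff_eq_mul] at this
    have auxz : ∀ v v' : T, (v : G) ∈ center G → φ v * φ v' = φ v' * φ v := fun v v' h => aux v v' (by
      rw [← hz h (v' : G), mul_inv_cancel_right, mul_inv_cancel]; exact one_mem _)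
    rintro _ ⟨v, hv, rfl⟩ _ ⟨v', hv', rfl⟩
    rcases hv with e | e | e <;> rcases hv' with e' | e' | e'
    all_goals first
      | exact auxz v v' e
      | exact (auxz v' v e').symm
      | (refine aux v v' ?_; rw [e, e']; simp)
      | (refine aux v v' ?_; rw [e, e', hwAB]; exact mem_zpowers w)
      | (refine (aux v' v ?_).symm; rw [e, e', hwAB]; exact mem_zpowers w)
  haveI hcomm : IsMulCommutative (closure k) :=
    ⟨⟨fun y y' => Subtype.ext (by
      have : closure k ≤ centralizer (closure k : Set (T ⧸ S.subgroupOf T)) := by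
        rw [centralizer_closure]
        exact (closure_le _).2 fun y hy => mem_centralizer_iff.2 fun y' hy' => hk2 y' hy' y hy
      exact mem_centralizer_iff.1 (this y'.2) y y.2)⟩⟩
  set E := closure ({A, B} ∪ (center G : Set G))
  have hRE : (R : Subgroup G) ≤ E := by
    intro v hv
    have h1 : f v ∈ (R.mapSurjective hf : Subgroup (P2 F)) := ⟨v, hv, rfl⟩
    have h2 : f v ∈ E.map f := by
      have hle : closure ({f A, f B} : Set (P2 F)) ≤ E.map f := (closure_le _).2 (by
        rintro y (rfl | rfl)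
        · exact ⟨A, subset_closure (Or.inl (Or.inl rfl)), rfl⟩
        · exact ⟨B, subset_closure (Or.inl (Or.inr rfl)), rfl⟩)
      exact hle (hgen h1)
    obtain ⟨v', hv', e⟩ := h2
    have : v'⁻¹ * v ∈ E := subset_closure (Or.inr (show v'⁻¹ * v ∈ center G by
      rw [← hk, MonoidHom.mem_ker, map_mul, map_inv, e, inv_mul_cancel]))
    simpa using E.mul_mem hv' this
  have hEk : ∀ v ∈ E, ∃ h : v ∈ T, φ ⟨v, h⟩ ∈ closure k := by
    intro v hv
    induction hv using closure_induction with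
    | mem v hv =>
      rcases hv with (rfl | rfl) | hv
      · exact ⟨hAT.1, subset_closure ⟨⟨_, hAT.1⟩, Or.inl rfl, rfl⟩⟩
      · exact ⟨hAT.2, subset_closure ⟨⟨_, hAT.2⟩, Or.inr (Or.inl rfl), rfl⟩⟩
      · exact ⟨hZT v hv, subset_closure ⟨⟨_, hZT v hv⟩, Or.inr (Or.inr hv), rfl⟩⟩
    | one => exact ⟨one_mem _, (map_one φ).symm ▸ one_mem _⟩
    | mul v v' _ _ ih ih' =>
      obtain ⟨h, ih⟩ := ih
      obtain ⟨h', ih'⟩ := ih'
      refine ⟨T.mul_mem h h', ?_⟩
      rw [show (⟨v * v', T.mul_mem h h'⟩ : T) = ⟨v, h⟩ * ⟨v', h'⟩ from rfl, map_mul]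
      exact mul_mem ih ih'
    | inv v _ ih =>
      obtain ⟨h, ih⟩ := ih
      refine ⟨T.inv_mem h, ?_⟩
      rw [show (⟨v⁻¹, T.inv_mem h⟩ : T) = ⟨v, h⟩⁻¹ from rfl, map_inv]
      exact inv_mem ih
  have hRS : (commutator (R : Subgroup G)).map (R : Subgroup G).subtype ≤ S := by
    rw [Subgroup.map_subtype_commutator, Subgroup.commutator_le]
    intro v hv v' hv'
    obtain ⟨h, hv1⟩ := hEk v (hRE hv)
    obtain ⟨h', hv1'⟩ := hEk v' (hRE hv')
    have e : φ ⟨v, h⟩ * φ ⟨v', h'⟩ = φ ⟨v', h'⟩ * φ ⟨v, h⟩ :=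
      congrArg Subtype.val (mul_comm' (⟨_, hv1⟩ : closure k) ⟨_, hv1'⟩)
    have h2 : φ (⟨v, h⟩ * ⟨v', h'⟩ * ⟨v, h⟩⁻¹ * ⟨v', h'⟩⁻¹) = 1 := by
      simp only [map_mul, map_inv, e]; group
    exact mem_subgroupOf.1 ((QuotientGroup.eq_one_iff _).1 h2)
  haveI : (R : Subgroup G).FiniteIndex := inferInstance
  have key : ∀ (i : ℕ) (g₀ : G), g₀⁻¹ * u ^ i * g₀ ∈ (R : Subgroup G) → g₀⁻¹ * u ^ i * g₀ = u ^ i := fun i g₀ _ => by
    rw [mul_assoc, ← hz ((center G).pow_mem huz i) g₀, inv_mul_cancel_left]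
  set ψ : (R : Subgroup G) →* Abelianization (R : Subgroup G) := Abelianization.of
  have h1 : MonoidHom.transfer ψ u = 1 := Abelianization.commutator_subset_ker _ huc
  rw [MonoidHom.transfer_eq_pow ψ u key, ← MonoidHom.mem_ker, Abelianization.ker_of] at h1
  have h2 : u ^ (R : Subgroup G).index ∈ S ⊓ center G := ⟨hRS ⟨_, h1, rfl⟩, (center G).pow_mem huz _⟩
  rw [hdisj, mem_bot] at h2
  obtain ⟨i, hi⟩ := IsPGroup.iff_orderOf.1 R.2 ⟨u, hu⟩
  rw [Subgroup.orderOf_mk] at hi
  have hco : (orderOf u).Coprime (R : Subgroup G).index := by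
    rw [hi]
    exact ((Nat.prime_two.coprime_iff_not_dvd).2 R.not_dvd_index).pow_left i
  exact mem_bot.1 (mem_of_coprime_pow hco (mem_bot.2 h2))

/-- The centre meets the derived subgroup trivially. -/
theorem commutator_inf_center {p e q a m₀ d : ℕ} (H : Hyp G p e q a m₀) (Fr : Frame (G ⧸ center G) p e q a d)
    (hq : q = Fintype.card F) (hf : Function.Surjective f) (hk : f.ker = center G) (h4 : 4 ≤ q)
    (hP : Odd q → 7 ≤ q ∧ ∀ t c : G, f t * f t = 1 → f t ≠ 1 → f c * f t = f t * f c → c * t = t * c) :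
    commutator G ⊓ center G = ⊥ := by
  classical
  haveI : Fact p.Prime := ⟨H.hp⟩
  haveI hcp : CharP F p := by
    obtain ⟨p', hp'⟩ := CharP.exists F
    obtain ⟨n, hp'', hn⟩ := FiniteField.card F p'
    have : p = p' := (Nat.prime_dvd_prime_iff_eq H.hp hp'').1
      (H.hp.dvd_of_dvd_pow (hn ▸ hq ▸ H.p_dvd_q))
    exact this ▸ hp'
  rw [eq_bot_iff]
  intro z hz
  refine mem_of_primary ⊥ z fun u hu r l hr hl => ?_
  obtain ⟨huc, huz⟩ := zpowers_le.2 hz hu
  haveI : Fact r.Prime := ⟨hr⟩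
  obtain ⟨R, hR⟩ := (IsPGroup.of_card (n := l) (by rw [Nat.card_zpowers, hl]) :
    IsPGroup r (zpowers u)).exists_le_sylow
  have huR : u ∈ (R : Subgroup G) := hR (mem_zpowers u)
  by_cases hab : IsMulCommutative (R : Subgroup G)
  · exact (CfsgLib.TransferBasic.inf_center_inf_commutator_eq_bot (P := R) hab).le ⟨⟨huR, huc⟩, huz⟩
  by_cases hrp : r = p
  · subst hrp
    refine absurd ⟨⟨fun x y => Subtype.ext ?_⟩⟩ hab
    by_cases hy : (y : G) ∈ center G
    · exact mem_center_iff.1 hy x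
    obtain ⟨k, hk'⟩ := IsPGroup.iff_orderOf.1 R.2 y
    refine mem_C.1 (H.C_eq_comap hy ((Subgroup.orderOf_coe y).trans hk') ?_)
    haveI := Fr.comm_sylow (R.mapSurjective (QuotientGroup.mk'_surjective (center G)))
    exact congrArg Subtype.val (mul_comm'
      (⟨_, (x : G), x.2, rfl⟩ : (R.mapSurjective (QuotientGroup.mk'_surjective (center G)) : Subgroup (G ⧸ center G)))
      ⟨_, (y : G), y.2, rfl⟩)
  by_cases hr2 : r = 2
  · subst hr2
    have hqo : Odd q := by
      rw [← Nat.not_even_iff_odd]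
      intro he
      exact hrp ((Nat.prime_dvd_prime_iff_eq Nat.prime_two H.hp).1
        (Nat.prime_two.dvd_of_dvd_pow (H.hq ▸ even_iff_two_dvd.1 he)))
    exact mem_bot.2 (eq_one_of_two hf hk (hq ▸ hqo) (hq ▸ (hP hqo).1) (hP hqo).2 R huR huc huz)
  · refine absurd ⟨⟨fun x y => ?_⟩⟩ hab
    obtain ⟨Rs, hRs⟩ := Sylow.mapSurjective_surjective (CfsgLib.Linear.FourGroups.proj_surj (F := F)) r
      (R.mapSurjective hf)
    have hc := CfsgLib.Linear.SylowDim.isCyclic_sylow_sl (p := p) hr2 hrp Rs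
    haveI : IsCyclic ((R : Subgroup G).map f) := by
      have e : (R : Subgroup G).map f = (Rs : Subgroup _).map (proj (F := F)) :=
        congrArg (fun Q : Sylow r (P2 F) => (Q : Subgroup (P2 F))) hRs.symm
      rw [e]
      exact isCyclic_of_surjective ((proj (F := F)).subgroupMap _) (MonoidHom.subgroupMap_surjective _ _)
    exact commutative_of_cyclic_center_quotient (f.subgroupMap (R : Subgroup G)) (fun v hv => by
      have : (v : G) ∈ center G := hk ▸ MonoidHom.mem_ker.2 (congrArg Subtype.val hv)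
      exact mem_center_iff.2 fun g => Subtype.ext (mem_center_iff.1 this g)) x y

theorem exists_split (hf : Function.Surjective f) (hk : f.ker = center G) (h4 : 4 ≤ Fintype.card F)
    (hbot : commutator G ⊓ center G = ⊥) :
    ∃ N A : Subgroup G, N.Normal ∧ A ≤ center G ∧ N ⊓ A = ⊥ ∧ N ⊔ A = ⊤ ∧ Nonempty (N ≃* P2 F) := by
  have hmap : (commutator G).map f = ⊤ := by
    rw [map_commutator_eq, MonoidHom.range_eq_top.2 hf, ← commutator_def, isPerfect_P2 h4]
  refine ⟨commutator G, center G, inferInstance, le_rfl, hbot, ?_,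
    ⟨MulEquiv.ofBijective (f.comp (commutator G).subtype) ⟨?_, ?_⟩⟩⟩
  · rw [← hk, ← comap_map_eq, hmap, comap_top]
  · rw [injective_iff_map_eq_one]
    intro v hv
    have : (v : G) ∈ commutator G ⊓ center G := ⟨v.2, hk ▸ MonoidHom.mem_ker.2 hv⟩
    rw [hbot, mem_bot] at this
    exact Subtype.ext this
  · intro y
    obtain ⟨v, hv, e⟩ := (hmap ▸ mem_top y : y ∈ (commutator G).map f)
    exact ⟨⟨v, hv⟩, e⟩

end Ext

end CfsgLib.PSLClass
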