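import Cfsg.Agent.PSLClass.Recog
import Cfsg.Agent.PSLClass.Split
import Cfsg.Agent.InvChar.OneSixtyEight

/-!
# Class sizes of `PSL₂(q)` characterize it up to a central factor
-/

set_option autoImplicit false
set_option linter.unusedSectionVars false
set_option linter.style.haveILetI false

namespace CfsgLib.PSLClass

open Subgroup
open CfsgLib.Linear.SmallSub (P2)

section Facts

variable {G : Type*} [Group G] [Finite G]

theorem cs_ne_one {g : G} (hg : g ∉ center G) : cs g ≠ 1 := fun e => by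
  have h1 : C g = ⊤ := index_eq_one.1 e
  exact hg (mem_center_iff.2 fun x => mem_C.1 (h1 ▸ mem_top x : x ∈ C g))

theorem exists_cs {s : Set ℕ} (h : Set.range (fun g : G => cs g) = s) {v : ℕ} (hv : v ∈ s) (hv1 : v ≠ 1) :
    ∃ g : G, g ∉ center G ∧ cs g = v := by
  rw [← h] at hv
  obtain ⟨g, hg⟩ := hv
  refine ⟨g, fun hc => hv1 ?_, hg⟩
  rw [← hg]
  exact index_eq_one.2 (centralizer_eq_top_iff_subset.2 (Set.singleton_subset_iff.2 hc))

theorem hyp_even {q f : ℕ} (hq : q = 2 ^ f) (hq4 : 4 ≤ q)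
    (h : Set.range (fun g : G => cs g) = {1, q * (q - 1), q ^ 2 - 1, q * (q + 1)}) :
    Hyp G 2 f q (q ^ 2 - 1) (q - 1) := by
  obtain ⟨u, rfl⟩ : ∃ u, q = u + 1 := ⟨q - 1, by omega⟩
  have hf : 0 < f := Nat.pos_of_ne_zero fun e => by rw [e, pow_zero] at hq; omega
  have h2 : 2 ∣ u + 1 := hq ▸ dvd_pow_self 2 hf.ne'
  have ha : (u + 1) ^ 2 - 1 = u * (u + 2) := by rw [show (u + 1) ^ 2 = u * (u + 2) + 1 by ring, Nat.add_sub_cancel]
  rw [ha] at h ⊢
  simp only [Nat.add_sub_cancel, show u + 1 + 1 = u + 2 by omega] at h ⊢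
  have hval : ∀ g : G, g ∉ center G →
      cs g = u * (u + 2) ∨ cs g = (u + 1) * u ∨ cs g = (u + 1) * (u + 2) := by
    intro g hg
    have := h ▸ Set.mem_range_self g (f := fun g : G => cs g)
    rcases this with e | e | e | e
    · exact absurd e (cs_ne_one hg)
    · exact Or.inr (Or.inl e)
    · exact Or.inl e
    · exact Or.inr (Or.inr e)
  have hu2 : ¬ 2 ∣ u := fun e => by omega
  have hcop : (u * (u + 2)).Coprime (u + 1) := by
    refine Nat.Coprime.mul_left ?_ ?_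
    · exact Nat.coprime_self_add_right.2 (Nat.coprime_one_right u)
    · rw [show u + 2 = u + 1 + 1 by omega]
      exact Nat.coprime_self_add_left.2 (Nat.coprime_one_left _)
  have hqa : ¬ (u + 1) ∣ u * (u + 2) := fun e => by
    have := Nat.eq_one_of_dvd_coprimes hcop e dvd_rfl
    omega
  have hbig : ∀ x, 0 < x → x ≤ u + 2 → ¬ u * (u + 2) ∣ (u + 1) * x := fun x hx0 hx e => by
    have := Nat.le_of_dvd hx0 (hcop.dvd_of_dvd_mul_left e)
    have := Nat.mul_le_mul_right (u + 2) (show 2 ≤ u by omega)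
    omega
  have hd2 : ∀ r, r ∣ u → r ∣ u + 2 → r ∣ 2 := fun r h1 h2 => by simpa using Nat.dvd_sub h2 h1
  refine
    { hp := Nat.prime_two, hf := hf, hq := hq, sizes := ?_, exA := ?_, isolA := ?_, exS := ?_, hm₀ := hu2,
      m₀lt := ?_, isolS := ?_, avoid := ?_, hap := ?_ }
  · exact fun e => (Nat.prime_two.dvd_mul.1 e).elim hu2 (fun e => hu2 (by omega))
  · intro g hg
    rcases hval g hg with e | e | e
    · exact Or.inl e
    · exact Or.inr ⟨u, e⟩
    · exact Or.inr ⟨u + 2, e⟩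
  · exact exists_cs h (Or.inr (Or.inr (Or.inl rfl))) (by nlinarith)
  · intro g hg hd
    rcases hval g hg with e | e | e
    · exact e
    all_goals rw [e] at hd; exfalso; rcases hd with hd | hd
    · exact hqa ((dvd_mul_right _ _).trans hd)
    · exact hbig u (by omega) (by omega) hd
    · exact hqa ((dvd_mul_right _ _).trans hd)
    · exact hbig (u + 2) (by omega) le_rfl hd
  · exact exists_cs h (Or.inr (Or.inl rfl)) (by nlinarith)
  · nlinarith
  · intro g hg hd
    rcases hval g hg with e | e | e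
    · rw [e] at hd
      exfalso
      rcases hd with hd | hd
      · exact hbig u (by omega) (by omega) hd
      · exact hqa ((dvd_mul_right _ _).trans hd)
    · exact e
    · rw [e] at hd
      exfalso
      rcases hd with hd | hd
      · exact absurd (Nat.le_of_dvd (Nat.mul_pos (by omega) (by omega)) hd) (by nlinarith)
      · have := Nat.le_of_dvd two_pos (hd2 u dvd_rfl (Nat.dvd_of_mul_dvd_mul_left (by omega) hd))
        omega
  · intro r hr hr2
    obtain ⟨g1, hg1, e1⟩ := exists_cs h (Or.inr (Or.inl rfl)) (by nlinarith : (u + 1) * u ≠ 1)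
    obtain ⟨g2, hg2, e2⟩ := exists_cs h (Or.inr (Or.inr (Or.inr rfl))) (by nlinarith : (u + 1) * (u + 2) ≠ 1)
    by_cases hd1 : r ∣ (u + 1) * u
    · refine ⟨g2, hg2, fun e => hqa ⟨u + 2, e.symm.trans e2⟩, fun hd3 => ?_⟩
      rw [e2] at hd3
      rcases hr.dvd_mul.1 hd1 with k1 | k1
      · have hr' : r ∣ 2 ^ f := hq ▸ k1
        exact hr2 ((Nat.prime_dvd_prime_iff_eq hr Nat.prime_two).1 (hr.dvd_of_dvd_pow hr'))
      rcases hr.dvd_mul.1 hd3 with k2 | k2
      · exact hr.ne_one (Nat.dvd_one.1 (by simpa using Nat.dvd_sub k2 k1))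
      · exact hr2 ((Nat.prime_dvd_prime_iff_eq hr Nat.prime_two).1 (hd2 r k1 k2))
    · exact ⟨g1, hg1, fun e => hqa ⟨u, e.symm.trans e1⟩, e1 ▸ hd1⟩

/-- The arithmetic for odd `q = 2 h + 1`. -/
theorem odd_arith {h b₀ m : ℕ} (h3 : 3 ≤ h)
    (hb : (Even h ∧ b₀ = h + 1 ∧ m = 2 * h) ∨ (Odd h ∧ b₀ = h ∧ m = 2 * h + 2)) :
    (2 * (h * (h + 1))).Coprime (2 * h + 1) ∧ (∀ x, x ∈ ({b₀, 2 * h, 2 * h + 2} : Set ℕ) → 0 < x ∧ x ≤ 2 * h + 2) ∧
      (∀ x, x ∈ ({b₀, 2 * h, 2 * h + 2} : Set ℕ) → (x ∣ m ∨ m ∣ x) → x = m) ∧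
      (∀ r : ℕ, r.Prime → ¬ (r ∣ b₀ ∧ r ∣ m)) ∧
      (∀ x, x ∈ ({b₀, 2 * h, 2 * h + 2} : Set ℕ) → x ∣ b₀ → x = b₀) := by
  have hc : (2 * (h * (h + 1))).Coprime (2 * h + 1) := by
    refine Nat.Coprime.mul_left (Nat.coprime_two_left.2 ⟨h, rfl⟩) (Nat.Coprime.mul_left ?_ ?_)
    · exact (Nat.coprime_mul_right_add_right h 1 2).2 (Nat.coprime_one_right h)
    · rw [show 2 * h + 1 = h + (h + 1) by omega]
      exact Nat.coprime_add_self_right.2 (Nat.coprime_self_add_left.2 (Nat.coprime_one_left h))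
  have hdiv : ∀ x y : ℕ, x ∣ y → x ≤ y ∨ y = 0 := fun x y e => by
    rcases Nat.eq_zero_or_pos y with e0 | e0
    · exact Or.inr e0
    · exact Or.inl (Nat.le_of_dvd e0 e)
  rcases hb with ⟨he, rfl, rfl⟩ | ⟨ho, rfl, rfl⟩
  · rw [even_iff_two_dvd] at he
    refine ⟨hc, ?_, ?_, ?_, ?_⟩
    · rintro x (rfl | rfl | rfl) <;> omega
    · rintro x (rfl | rfl | rfl) hd
      · rcases hd with hd | hd
        · have := Nat.le_of_dvd two_pos (show h + 1 ∣ 2 by
            have := Nat.dvd_sub (dvd_mul_left (h + 1) 2) hd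
            rwa [show 2 * (h + 1) - 2 * h = 2 by omega] at this)
          omega
        · have := hdiv _ _ hd; omega
      · rfl
      · rcases hd with hd | hd
        · have := hdiv _ _ hd; omega
        · have := Nat.le_of_dvd two_pos (show 2 * h ∣ 2 by simpa using Nat.dvd_sub hd dvd_rfl)
          omega
    · rintro r hr ⟨h1, h2⟩
      have h4 : r ∣ 2 * (h + 1) - 2 * h := Nat.dvd_sub (h1.trans (dvd_mul_left _ _)) h2
      rw [show 2 * (h + 1) - 2 * h = 2 by omega] at h4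
      rw [(Nat.prime_dvd_prime_iff_eq hr Nat.prime_two).1 h4] at h1
      omega
    · rintro x (rfl | rfl | rfl) hd
      · rfl
      all_goals have := hdiv _ _ hd; omega
  · rw [Nat.odd_iff] at ho
    refine ⟨hc, ?_, ?_, ?_, ?_⟩
    · rintro x (rfl | rfl | rfl) <;> omega
    · rintro x (rfl | rfl | rfl) hd
      · rcases hd with hd | hd
        · have := Nat.le_of_dvd two_pos (show x ∣ 2 by
            have := Nat.dvd_sub hd (dvd_mul_left x 2)
            rwa [show 2 * x + 2 - 2 * x = 2 by omega] at this)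
          omega
        · have := hdiv _ _ hd; omega
      · rcases hd with hd | hd
        · have := Nat.le_of_dvd two_pos (show 2 * b₀ ∣ 2 by simpa using Nat.dvd_sub hd dvd_rfl)
          omega
        · have := hdiv _ _ hd; omega
      · rfl
    · rintro r hr ⟨h1, h2⟩
      have h4 : r ∣ 2 := by simpa using Nat.dvd_sub h2 (h1.trans (dvd_mul_left b₀ 2))
      rw [(Nat.prime_dvd_prime_iff_eq hr Nat.prime_two).1 h4] at h1
      omega
    · rintro x (rfl | rfl | rfl) hd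
      · rfl
      all_goals have := hdiv _ _ hd; omega

theorem hyp_odd {q p f h b₀ m : ℕ} (hp : p.Prime) (hq : q = p ^ f) (hqh : q = 2 * h + 1) (h3 : 3 ≤ h)
    (hb : (Even h ∧ b₀ = h + 1 ∧ m = 2 * h) ∨ (Odd h ∧ b₀ = h ∧ m = 2 * h + 2))
    (hr : Set.range (fun g : G => cs g) =
      {1, 2 * (h * (h + 1)), q * b₀, q * (2 * h), q * (2 * h + 2)}) :
    Hyp G p f q (2 * (h * (h + 1))) m := by
  obtain ⟨hc, hle, hiso, hnd, -⟩ := odd_arith h3 hb
  rw [← hqh] at hc
  set a := 2 * (h * (h + 1)) with haa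
  have hf : 0 < f := Nat.pos_of_ne_zero fun e => by rw [e, pow_zero] at hq; omega
  have ha : 2 * h + 2 < a := by
    have := Nat.mul_le_mul_right (h + 1) h3
    omega
  have hmx : m ∈ ({b₀, 2 * h, 2 * h + 2} : Set ℕ) := by
    rcases hb with ⟨-, -, rfl⟩ | ⟨-, -, rfl⟩ <;> simp
  have hqa : ¬ q ∣ a := fun e => by
    have := Nat.eq_one_of_dvd_coprimes hc e dvd_rfl
    omega
  have hbig : ∀ x ∈ ({b₀, 2 * h, 2 * h + 2} : Set ℕ), ¬ a ∣ q * x := fun x hx e => by
    have := Nat.le_of_dvd (hle x hx).1 (hc.dvd_of_dvd_mul_left e)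
    have := (hle x hx).2
    omega
  have hval : ∀ g : G, g ∉ center G →
      cs g = a ∨ ∃ x ∈ ({b₀, 2 * h, 2 * h + 2} : Set ℕ), cs g = q * x := by
    intro g hg
    have := hr ▸ Set.mem_range_self g (f := fun g : G => cs g)
    rcases this with e | e | e | e | e
    · exact absurd e (cs_ne_one hg)
    · exact Or.inl e
    all_goals exact Or.inr ⟨_, by simp, e⟩
  have hex : ∀ x ∈ ({b₀, 2 * h, 2 * h + 2} : Set ℕ), ∃ g : G, g ∉ center G ∧ cs g = q * x := by
    intro x hx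
    refine exists_cs hr ?_ fun e => ?_
    · rcases hx with rfl | rfl | rfl <;> simp
    · have := Nat.le_of_dvd one_pos (Dvd.intro x e)
      omega
  refine
    { hp := hp, hf := hf, hq := hq, sizes := ?_, exA := ?_, isolA := ?_, exS := hex m hmx, hm₀ := ?_,
      m₀lt := ?_, isolS := ?_, avoid := ?_, hap := ?_ }
  · intro e
    exact hp.ne_one (Nat.eq_one_of_dvd_coprimes hc e (hq ▸ dvd_pow_self p hf.ne'))
  · intro g hg
    rcases hval g hg with e | ⟨x, -, e⟩
    · exact Or.inl e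
    · exact Or.inr ⟨x, e⟩
  · exact exists_cs hr (by simp) (by omega)
  · intro g hg hd
    rcases hval g hg with e | ⟨x, hx, e⟩
    · exact e
    · rw [e] at hd
      exfalso
      rcases hd with hd | hd
      · exact hqa ((dvd_mul_right _ _).trans hd)
      · exact hbig x hx hd
  · intro e
    refine hp.ne_one (Nat.eq_one_of_dvd_coprimes hc ?_ (hq ▸ dvd_pow_self p hf.ne'))
    rcases hb with ⟨-, -, rfl⟩ | ⟨-, -, rfl⟩
    · exact e.trans ⟨h + 1, by rw [haa]; ring⟩
    · exact e.trans ⟨h, by rw [haa]; ring⟩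
  · have := (hle m hmx).2; omega
  · intro g hg hd
    rcases hval g hg with e | ⟨x, hx, e⟩
    · rw [e] at hd
      exfalso
      rcases hd with hd | hd
      · exact hbig m hmx hd
      · exact hqa ((dvd_mul_right _ _).trans hd)
    · rw [e] at hd ⊢
      rw [hiso x hx (hd.imp (Nat.dvd_of_mul_dvd_mul_left (by omega)) (Nat.dvd_of_mul_dvd_mul_left (by omega)))]
  · intro r hr' hrp
    obtain ⟨g1, hg1, e1⟩ := hex b₀ (by simp)
    obtain ⟨g2, hg2, e2⟩ := hex m hmx
    have hrq : ¬ r ∣ q := fun e =>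
      hrp ((Nat.prime_dvd_prime_iff_eq hr' hp).1 (hr'.dvd_of_dvd_pow (hq ▸ e)))
    by_cases hd1 : r ∣ b₀
    · refine ⟨g2, hg2, fun e => hqa ⟨m, e.symm.trans e2⟩, fun e => ?_⟩
      rw [e2] at e
      exact hnd r hr' ⟨hd1, (hr'.dvd_mul.1 e).resolve_left hrq⟩
    · refine ⟨g1, hg1, fun e => hqa ⟨b₀, e.symm.trans e1⟩, fun e => ?_⟩
      rw [e1] at e
      exact (hr'.dvd_mul.1 e).elim hrq hd1

end Facts

section Final

variable {F : Type*} [Field F] [Fintype F] {G : Type*} [Group G] [Finite G]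

theorem center_P2 (h4 : 4 ≤ Fintype.card F) : center (P2 F) = ⊥ := by
  classical
  obtain ⟨x, -, hx⟩ := Finset.exists_mem_notMem_of_card_lt_card (s := ({0, 1, -1} : Finset F)) (t := Finset.univ)
    (lt_of_le_of_lt Finset.card_le_three (by rw [Finset.card_univ]; omega))
  simp only [Finset.mem_insert, Finset.mem_singleton, not_or] at hx
  haveI : IsSimpleGroup (P2 F) := CfsgLib.Linear.isSimpleGroup_PSL
    (Or.inr ⟨x, hx.1, fun e => (sq_eq_one_iff.1 e).elim hx.2.1 hx.2.2⟩)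
  refine (inferInstance : (center (P2 F)).Normal).eq_bot_or_eq_top.resolve_right fun e => ?_
  have h1 : commutator (P2 F) = ⊥ := by
    rw [commutator_def, eq_bot_iff, commutator_le]
    intro a _ b _
    rw [mem_bot]
    exact commutatorElement_eq_one_iff_mul_comm.2 (mem_center_iff.1 (e ▸ mem_top b : b ∈ center (P2 F)) a)
  exact top_ne_bot (α := Subgroup (P2 F)) (isPerfect_P2 h4 ▸ h1)

/-- The quotient isomorphism as a map from the group. -/
theorem toMap (e : G ⧸ center G ≃* P2 F) :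
    ∃ f : G →* P2 F, Function.Surjective f ∧ f.ker = center G :=
  ⟨e.toMonoidHom.comp (QuotientGroup.mk' (center G)), e.surjective.comp (QuotientGroup.mk'_surjective _), by
    ext v
    rw [MonoidHom.mem_ker, MonoidHom.comp_apply, MulEquiv.coe_toMonoidHom, map_eq_one_iff e e.injective]
    exact QuotientGroup.eq_one_iff v⟩

theorem main_even (h2 : 2 ∣ Fintype.card F) (h4 : 4 ≤ Fintype.card F)
    (h : Set.range (fun g : G => cs g) = Set.range (fun g : P2 F => (centralizer ({g} : Set (P2 F))).index)) :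
    ∃ N A : Subgroup G, N.Normal ∧ A ≤ center G ∧ N ⊓ A = ⊥ ∧ N ⊔ A = ⊤ ∧ Nonempty (N ≃* P2 F) := by
  obtain ⟨p, hpc⟩ := CharP.exists F
  obtain ⟨n, hp, hq⟩ := FiniteField.card F p
  obtain rfl : p = 2 :=
    ((Nat.prime_dvd_prime_iff_eq Nat.prime_two hp).mp (Nat.prime_two.dvd_of_dvd_pow (hq ▸ h2))).symm
  have H : Hyp G 2 n (Fintype.card F) (Fintype.card F ^ 2 - 1) (Fintype.card F - 1) :=
    hyp_even hq h4 (h.trans (CfsgLib.PSL2Classes.range_even h2 h4))
  have Fr : Frame (G ⧸ center G) 2 n (Fintype.card F) (Fintype.card F ^ 2 - 1) 1 :=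
    H.frame (Or.inl rfl) (fun _ => rfl) (one_mul _)
  obtain ⟨K, i1, i2, hK, ⟨φ⟩⟩ := recog_even Fr h4
  obtain ⟨ψ⟩ := CfsgLib.InvChar.psl_congr (FiniteField.ringEquivOfCardEq hK)
  obtain ⟨f, hf, hk⟩ := toMap (φ.trans ψ)
  refine exists_split hf hk h4 (commutator_inf_center H Fr rfl hf hk h4 fun ho => ?_)
  exact absurd (even_iff_two_dvd.2 h2) (Nat.not_even_iff_odd.2 ho)

theorem odd_data (hodd : ¬ 2 ∣ Fintype.card F) (h7 : 7 ≤ Fintype.card F)
    (h : Set.range (fun g : G => cs g) = Set.range (fun g : P2 F => (centralizer ({g} : Set (P2 F))).index)) :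
    ∃ p n hh b₀ m, Fintype.card F = 2 * hh + 1 ∧
      ((Even hh ∧ b₀ = hh + 1 ∧ m = 2 * hh) ∨ (Odd hh ∧ b₀ = hh ∧ m = 2 * hh + 2)) ∧
      Set.range (fun g : P2 F => (centralizer ({g} : Set (P2 F))).index) =
        {1, 2 * (hh * (hh + 1)), Fintype.card F * b₀, Fintype.card F * (2 * hh), Fintype.card F * (2 * hh + 2)} ∧
      Hyp G p n (Fintype.card F) (2 * (hh * (hh + 1))) m ∧
      Nonempty (G ⧸ center G ≃* P2 F) := by
  have hodd' : Odd (Fintype.card F) := Nat.not_even_iff_odd.1 fun e => hodd (even_iff_two_dvd.1 e)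
  obtain ⟨hh, hhq⟩ := id hodd'
  obtain ⟨p, hpc⟩ := CharP.exists F
  obtain ⟨n, hp, hq⟩ := FiniteField.card F p
  have hr := CfsgLib.PSL2Classes.range_odd hodd' h7
  have ha : (Fintype.card F ^ 2 - 1) / 2 = 2 * (hh * (hh + 1)) := by
    rw [hhq, show (2 * hh + 1) ^ 2 = 2 * (2 * (hh * (hh + 1))) + 1 by ring, Nat.add_sub_cancel,
      Nat.mul_div_cancel_left _ two_pos]
  have h1 : Fintype.card F - 1 = 2 * hh := by omega
  have h2' : Fintype.card F + 1 = 2 * hh + 2 := by omega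
  obtain ⟨b₀, m, hb, hr'⟩ : ∃ b₀ m,
      ((Even hh ∧ b₀ = hh + 1 ∧ m = 2 * hh) ∨ (Odd hh ∧ b₀ = hh ∧ m = 2 * hh + 2)) ∧
      Set.range (fun g : P2 F => (centralizer ({g} : Set (P2 F))).index) =
        {1, 2 * (hh * (hh + 1)), Fintype.card F * b₀, Fintype.card F * (2 * hh), Fintype.card F * (2 * hh + 2)} := by
    rw [ha, h1, h2'] at hr
    by_cases h4 : Fintype.card F % 4 = 1
    · refine ⟨hh + 1, 2 * hh, Or.inl ⟨Nat.even_iff.2 (by omega), rfl, rfl⟩, ?_⟩
      rw [if_pos h4, show 2 * hh + 2 = 2 * (hh + 1) by ring, Nat.mul_div_assoc _ (dvd_mul_right 2 _),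
        Nat.mul_div_cancel_left _ two_pos, show 2 * (hh + 1) = 2 * hh + 2 by ring] at hr
      exact hr
    · refine ⟨hh, 2 * hh + 2, Or.inr ⟨Nat.odd_iff.2 (by omega), rfl, rfl⟩, ?_⟩
      rw [if_neg h4, Nat.mul_div_assoc _ (dvd_mul_right 2 _), Nat.mul_div_cancel_left _ two_pos] at hr
      exact hr
  have H := hyp_odd hp hq hhq (by omega) hb (h.trans hr')
  refine ⟨p, n, hh, b₀, m, hhq, hb, hr', H, ?_⟩
  have h2a : 2 * (2 * (hh * (hh + 1))) = Fintype.card F ^ 2 - 1 := by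
    rw [hhq, show (2 * hh + 1) ^ 2 = 2 * (2 * (hh * (hh + 1))) + 1 by ring, Nat.add_sub_cancel]
  obtain ⟨K, i1, i2, hK, ⟨φ⟩⟩ := H.recog_odd hodd' h7 h2a fun h34 g hg => by
    have := (h.trans hr') ▸ Set.mem_range_self g (f := fun g : G => cs g)
    rcases hb with ⟨he, -, -⟩ | ⟨-, rfl, -⟩
    · rw [Nat.even_iff] at he; omega
    rw [show (Fintype.card F - 1) / 2 = b₀ by omega, h1, h2']
    rcases this with e | e | e | e | e
    · exact absurd e (cs_ne_one hg)
    · exact Or.inl e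
    · exact Or.inr (Or.inl e)
    · exact Or.inr (Or.inr (Or.inl e))
    · exact Or.inr (Or.inr (Or.inr e))
  obtain ⟨ψ⟩ := CfsgLib.InvChar.psl_congr (FiniteField.ringEquivOfCardEq hK)
  exact ⟨φ.trans ψ⟩

theorem main_odd (hodd : ¬ 2 ∣ Fintype.card F) (h7 : 7 ≤ Fintype.card F)
    (h : Set.range (fun g : G => cs g) = Set.range (fun g : P2 F => (centralizer ({g} : Set (P2 F))).index)) :
    ∃ N A : Subgroup G, N.Normal ∧ A ≤ center G ∧ N ⊓ A = ⊥ ∧ N ⊔ A = ⊤ ∧ Nonempty (N ≃* P2 F) := by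
  obtain ⟨p, n, hh, b₀, m, hhq, hb, hr, H, ⟨e⟩⟩ := odd_data hodd h7 h
  obtain ⟨f, hf, hk⟩ := toMap e
  have hodd' : Odd (Fintype.card F) := ⟨hh, hhq⟩
  obtain ⟨hc, hle, -, -, hiso⟩ := odd_arith (by omega : 3 ≤ hh) hb
  have h2a : 2 * (2 * (hh * (hh + 1))) = Fintype.card F ^ 2 - 1 := by
    rw [hhq, show (2 * hh + 1) ^ 2 = 2 * (2 * (hh * (hh + 1))) + 1 by ring, Nat.add_sub_cancel]
  have Fr : Frame (G ⧸ center G) p n (Fintype.card F) (2 * (hh * (hh + 1))) 2 :=
    H.frame (Or.inr rfl) (fun e => by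
      exfalso; exact hodd (e ▸ H.p_dvd_q)) h2a
  refine exists_split hf hk (by omega) (commutator_inf_center H Fr rfl hf hk (by omega) fun _ => ⟨h7, ?_⟩)
  have hb1 : Fintype.card F * b₀ ≠ 1 := fun e => by
    have := Nat.le_of_dvd one_pos (Dvd.intro b₀ e)
    omega
  obtain ⟨z, hz, hze⟩ := exists_cs (h.trans hr) (Or.inr (Or.inr (Or.inl rfl))) hb1
  intro t c ht ht1 hct
  refine lift_involution hf hk hodd' h7 hz ?_ ?_ ht ht1 hct
  · rw [hze]
    rcases hb with ⟨he, rfl, -⟩ | ⟨ho, rfl, -⟩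
    · rw [Nat.even_iff] at he
      rw [if_pos (by omega : Fintype.card F % 4 = 1), show Fintype.card F + 1 = 2 * (hh + 1) by omega]
      ring
    · rw [Nat.odd_iff] at ho
      rw [if_neg (by omega : ¬ Fintype.card F % 4 = 1), show Fintype.card F - 1 = 2 * b₀ by omega]
      ring
  · intro y hy hd
    rw [hze] at hd ⊢
    have hmem := hr ▸ Set.mem_range_self y (f := fun g : P2 F => (centralizer ({g} : Set (P2 F))).index)
    have hx : ∀ x ∈ ({b₀, 2 * hh, 2 * hh + 2} : Set ℕ),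
        (centralizer ({y} : Set (P2 F))).index = Fintype.card F * x →
        (centralizer ({y} : Set (P2 F))).index = Fintype.card F * b₀ := fun x hx e => by
      rw [e] at hd ⊢
      rw [hiso x hx (Nat.dvd_of_mul_dvd_mul_left (by omega) hd)]
    rcases hmem with e | e | e | e | e
    · refine absurd ?_ hy
      have h1 : y ∈ center (P2 F) := mem_center_iff.2 fun v =>
        mem_centralizer_singleton_iff.1 ((index_eq_one.1 e).ge (mem_top v))
      rwa [center_P2 (by omega), mem_bot] at h1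
    · rw [e] at hd
      rw [← hhq] at hc
      have := Nat.le_of_dvd (hle b₀ (by simp)).1 (hc.dvd_of_dvd_mul_left hd)
      have := (hle b₀ (by simp)).2
      have := Nat.mul_le_mul_right (hh + 1) (show 3 ≤ hh by omega)
      omega
    all_goals exact hx _ (by simp) e

end Final

end CfsgLib.PSLClass
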