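import Mathlib.GroupTheory.Sylow
import Mathlib.GroupTheory.Index
import Mathlib.GroupTheory.Subgroup.Centralizer
import Mathlib.Data.Nat.Factorization.Basic
import Mathlib.Tactic.Group

/-!
# Groups with class sizes like those of `PSL₂(q)`: elementary tools and hypotheses
-/

set_option autoImplicit false
set_option linter.unusedSectionVars false
set_option linter.style.haveILetI false

namespace CfsgLib.PSLClass

open Subgroup

variable {G : Type*} [Group G]

/-- The centralizer of an element. -/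
abbrev C (g : G) : Subgroup G := centralizer ({g} : Set G)

/-- The class size of an element. -/
noncomputable abbrev cs (g : G) : ℕ := (C g).index

theorem mem_C {g x : G} : x ∈ C g ↔ x * g = g * x := mem_centralizer_singleton_iff

theorem self_mem_C (g : G) : g ∈ C g := mem_C.2 rfl

theorem mem_C_comm {g x : G} (h : x ∈ C g) : g ∈ C x := mem_C.2 (mem_C.1 h).symm

theorem center_le_C (g : G) : center G ≤ C g := center_le_centralizer _

theorem C_le_C_of_mem_zpowers {g u : G} (h : u ∈ zpowers g) : C g ≤ C u := by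
  intro x hx
  obtain ⟨n, rfl⟩ := mem_zpowers_iff.1 h
  exact mem_C.2 ((show Commute x g from mem_C.1 hx).zpow_right n).eq

theorem C_mul {u v : G} : C u ⊓ C v ≤ C (u * v) := fun x hx =>
  mem_C.2 ((show Commute x u from mem_C.1 hx.1).mul_right (mem_C.1 hx.2)).eq

theorem zpowers_mul_of_coprime {u v : G} (h : Commute u v) (hc : (orderOf u).Coprime (orderOf v)) :
    u ∈ zpowers (u * v) ∧ v ∈ zpowers (u * v) := by
  have key : ∀ a b : G, Commute a b → (orderOf a).Coprime (orderOf b) → a ∈ zpowers (a * b) := by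
    intro a b hab hc
    have e : (a * b) ^ orderOf b = a ^ orderOf b := by rw [hab.mul_pow, pow_orderOf_eq_one, mul_one]
    obtain ⟨m, hm⟩ := exists_pow_eq_self_of_coprime hc.symm
    exact mem_zpowers_iff.2 ⟨((orderOf b * m : ℕ) : ℤ), by rw [zpow_natCast, pow_mul, e, hm]⟩
  refine ⟨key u v h hc, ?_⟩
  rw [h.eq]
  exact key v u h.symm hc.symm

/-- An element lies in a subgroup as soon as all its powers of prime power order do. -/
theorem mem_of_primary [Finite G] (S : Subgroup G) (g : G)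
    (h : ∀ u ∈ zpowers g, ∀ r k : ℕ, r.Prime → orderOf u = r ^ k → u ∈ S) : g ∈ S := by
  suffices H : ∀ n, ∀ x ∈ zpowers g, orderOf x = n → x ∈ S from H _ g (mem_zpowers g) rfl
  intro n
  induction n using Nat.strong_induction_on with
  | _ n ih =>
    intro x hx hn
    by_cases h1 : n = 1
    · rw [orderOf_eq_one_iff.1 (hn.trans h1)]; exact S.one_mem
    have hn0 : n ≠ 0 := hn ▸ (orderOf_pos x).ne'
    set r := n.minFac
    have hr : r.Prime := Nat.minFac_prime h1
    obtain ⟨k, m, hm, hkm⟩ := Nat.exists_eq_pow_mul_and_not_dvd hn0 r hr.ne_one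
    have hk : 0 < k := by
      by_contra hk
      rw [Nat.eq_zero_of_not_pos hk, pow_zero, one_mul] at hkm
      exact hm (hkm ▸ Nat.minFac_dvd n)
    by_cases hm1 : m = 1
    · exact h x hx r k hr (by rw [hn, hkm, hm1, mul_one])
    have hrk : 1 < r ^ k := Nat.one_lt_pow hk.ne' hr.one_lt
    have hm0 : 0 < m := Nat.pos_of_ne_zero fun e => hn0 (by rw [hkm, e, mul_zero])
    have hcop : (r ^ k).Coprime m := ((Nat.Prime.coprime_iff_not_dvd hr).2 hm).pow_left k
    have ha : x ^ m ∈ S := ih (r ^ k) (by rw [hkm]; exact lt_mul_of_one_lt_right (by omega) (by omega)) _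
      (pow_mem hx m) (by rw [orderOf_pow' x hm0.ne', hn, hkm, Nat.gcd_mul_left_left, Nat.mul_div_cancel _ hm0])
    have hb : x ^ (r ^ k) ∈ S := ih m (by rw [hkm]; exact lt_mul_of_one_lt_left hm0 hrk) _
      (pow_mem hx _) (by rw [orderOf_pow' x (by omega : r ^ k ≠ 0), hn, hkm, Nat.gcd_mul_right_left,
        Nat.mul_div_cancel_left _ (by omega : 0 < r ^ k)])
    have hbez := Nat.gcd_eq_gcd_ab (r ^ k) m
    rw [hcop.gcd_eq_one, Nat.cast_one] at hbez
    have e : x = (x ^ (r ^ k)) ^ Nat.gcdA (r ^ k) m * (x ^ m) ^ Nat.gcdB (r ^ k) m := by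
      rw [← zpow_natCast x (r ^ k), ← zpow_natCast x m, ← zpow_mul, ← zpow_mul, ← zpow_add, ← hbez, zpow_one]
    rw [e]
    exact S.mul_mem (S.zpow_mem hb _) (S.zpow_mem ha _)

/-- A non-central element has a non-central power of prime power order. -/
theorem exists_part [Finite G] {g : G} (hg : g ∉ center G) :
    ∃ u ∈ zpowers g, u ∉ center G ∧ ∃ r k : ℕ, r.Prime ∧ orderOf u = r ^ k := by
  by_contra hcon
  exact hg (mem_of_primary _ g fun u hu r k hr hk => by
    by_contra hu'
    exact hcon ⟨u, hu, hu', r, k, hr, hk⟩)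

theorem C_eq_of_le_of_cs [Finite G] {g h : G} (hle : C g ≤ C h) (hi : cs g = cs h) : C g = C h := by
  refine eq_of_le_of_card_ge hle ?_
  have h1 := (C g).card_mul_index
  have h2 := (C h).card_mul_index
  change Nat.card (C g) * cs g = _ at h1
  change Nat.card (C h) * cs h = _ at h2
  rw [hi] at h1
  exact le_of_eq (Nat.eq_of_mul_eq_mul_right (Nat.pos_of_ne_zero index_ne_zero_of_finite) (h2.trans h1.symm))

theorem cs_conj (c g : G) : cs (c * g * c⁻¹) = cs g := by
  have : C (c * g * c⁻¹) = (C g).map (MulAut.conj c).toMonoidHom := by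
    ext x
    rw [Subgroup.mem_map_equiv, MulAut.conj_symm_apply, mem_C, mem_C]
    constructor
    · intro h
      calc c⁻¹ * x * c * g = c⁻¹ * (x * (c * g * c⁻¹)) * c := by group
        _ = c⁻¹ * (c * g * c⁻¹ * x) * c := by rw [h]
        _ = g * (c⁻¹ * x * c) := by group
    · intro h
      calc x * (c * g * c⁻¹) = c * (c⁻¹ * x * c * g) * c⁻¹ := by group
        _ = c * (g * (c⁻¹ * x * c)) * c⁻¹ := by rw [h]
        _ = c * g * c⁻¹ * x := by group
  show (C (c * g * c⁻¹)).index = (C g).index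
  rw [this]
  exact index_map_equiv (C g) (MulAut.conj c)

theorem conj_not_center {c g : G} (hg : g ∉ center G) : c * g * c⁻¹ ∉ center G := fun h => hg (by
  have h' := mem_center_iff.1 h c⁻¹
  have : g = c * g * c⁻¹ := by
    calc g = c⁻¹ * (c * g * c⁻¹) * c := by group
      _ = c * g * c⁻¹ * c⁻¹ * c := by rw [h']
      _ = c * g * c⁻¹ := by group
  rwa [← this] at h)

/-- The class size hypotheses. -/
structure Hyp (G : Type*) [Group G] (p f q a m₀ : ℕ) : Prop where
  hp : p.Prime
  hf : 0 < f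
  hq : q = p ^ f
  hap : ¬ p ∣ a
  sizes : ∀ g : G, g ∉ center G → cs g = a ∨ q ∣ cs g
  exA : ∃ g : G, g ∉ center G ∧ cs g = a
  isolA : ∀ h : G, h ∉ center G → (cs h ∣ a ∨ a ∣ cs h) → cs h = a
  exS : ∃ g : G, g ∉ center G ∧ cs g = q * m₀
  hm₀ : ¬ p ∣ m₀
  m₀lt : m₀ < a
  isolS : ∀ h : G, h ∉ center G → (cs h ∣ q * m₀ ∨ q * m₀ ∣ cs h) → cs h = q * m₀
  avoid : ∀ r : ℕ, r.Prime → r ≠ p → ∃ g : G, g ∉ center G ∧ cs g ≠ a ∧ ¬ r ∣ cs g

end CfsgLib.PSLClass
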