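import Cfsg.Agent.PSLClass.Structure
import Cfsg.Agent.PSLClass.Frame
import Cfsg.Agent.PSLTwoRecog.Zass
import Cfsg.Agent.S1230

/-!
# The central quotient is `PSL₂(q)`
-/

set_option autoImplicit false
set_option linter.unusedSectionVars false
set_option linter.style.haveILetI false

namespace CfsgLib.PSLClass

open Subgroup

variable {G : Type*} [Group G] [Finite G] {p f q a m₀ d : ℕ}

theorem Hyp.frame (H : Hyp G p f q a m₀) (hd : d = 1 ∨ d = 2) (hd2 : p = 2 → d = 1) (hda : d * a = q ^ 2 - 1) :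
    Frame (G ⧸ center G) p f q a d :=
  ⟨H.hp, H.hf, H.hq, hd, hd2, hda, H.hap, H.card_quot, fun _ hk _ hkn => H.card_centralizer hk hkn⟩

theorem recog_even {K : Type*} [Group K] [Finite K] (H : Frame K 2 f q a 1) (hq4 : 4 ≤ q) :
    ∃ (F : Type) (_ : Field F) (_ : Fintype F), Fintype.card F = q ∧
      Nonempty (K ≃* Matrix.ProjectiveSpecialLinearGroup (Fin 2) F) := by
  haveI : Fact (Nat.Prime 2) := ⟨Nat.prime_two⟩
  obtain ⟨T⟩ : Nonempty (Sylow 2 K) := inferInstance
  have hsq : ∀ y : K, y ^ q = 1 → y * y = 1 := fun y hy => by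
    by_cases h : y = 1
    · rw [h, one_mul]
    · exact H.orderOf_two rfl h hy
  have hnc : ¬ IsCyclic (T : Subgroup K) := by
    intro hc
    obtain ⟨g, hg⟩ := hc.exists_ofOrder_eq_natCard
    rw [H.card_sylow T, ← Subgroup.orderOf_coe] at hg
    have := Nat.le_of_dvd two_pos
      (orderOf_dvd_of_pow_eq_one (by rw [pow_two]; exact hsq g (H.pow_q T g.2) : (g : K) ^ 2 = 1))
    omega
  have hnn : ¬ (T : Subgroup K).Normal := fun hn => by
    have h := (H.sylow_data T).1
    rw [normalizer_eq_top_iff.2 hn, index_top] at h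
    omega
  have hC : ∀ t : K, orderOf t = 2 → IsMulCommutative (centralizer ({t} : Set K)) ∧
      ∀ c ∈ centralizer ({t} : Set K), c ^ 2 = 1 := by
    intro t ht
    have htq : t ^ q = 1 := orderOf_dvd_iff_pow_eq_one.1 (ht ▸ H.hq ▸ dvd_pow_self 2 H.hf.ne')
    have ht1 : t ≠ 1 := fun e => by rw [e, orderOf_one] at ht; omega
    obtain ⟨Q, hQ⟩ := H.exists_sylow_C ht1 htq
    rw [hQ]
    exact ⟨H.comm_sylow Q, fun c hc => by rw [pow_two]; exact hsq c (H.pow_q Q hc)⟩
  obtain ⟨F, i1, i2, hF, e⟩ := Cfsg.Agent.S1230.result T hnc hnn hC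
  exact ⟨F, i1, i2, hF.trans (H.card_sylow T), e⟩

/-- A subgroup containing all squares of a finite group is normal with a 2-power index. -/
theorem sq_mem_subgroup {L : Type*} [Group L] [Finite L] (S : Subgroup L) (h : ∀ l : L, l ^ 2 ∈ S) :
    S.Normal ∧ ∃ j : ℕ, S.index = 2 ^ j := by
  haveI : Fact (Nat.Prime 2) := ⟨Nat.prime_two⟩
  have hn : S.Normal := ⟨fun x hx g => by
    have e : g * x * g⁻¹ = (g * x) ^ 2 * x⁻¹ * (g⁻¹) ^ 2 := by rw [pow_two, pow_two]; group
    rw [e]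
    exact S.mul_mem (S.mul_mem (h _) (S.inv_mem hx)) (h _)⟩
  refine ⟨hn, ?_⟩
  have hp : IsPGroup 2 (L ⧸ S) := fun x => by
    obtain ⟨l, rfl⟩ := QuotientGroup.mk_surjective x
    exact ⟨1, by rw [← QuotientGroup.mk_pow, QuotientGroup.eq_one_iff, pow_one]; exact h l⟩
  rw [index_eq_card]
  exact IsPGroup.iff_card.1 hp

/-- Squares of elements commuting modulo the centre with a square root of a central element centralize it. -/
theorem sq_mem_C {u s : G} (hs : s * s ∈ center G) (hu : (u : G ⧸ center G) * s = s * u) : u ^ 2 ∈ C s := by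
  obtain ⟨ζ, hζ, e⟩ : ∃ ζ ∈ center G, u * s * u⁻¹ = ζ * s := ⟨u * s * u⁻¹ * s⁻¹, by
    rw [← QuotientGroup.eq_one_iff]
    simp only [QuotientGroup.mk_mul, QuotientGroup.mk_inv, hu]
    group, by group⟩
  have hz : ∀ v : G, v * ζ = ζ * v := mem_center_iff.1 hζ
  have h1 : ζ * ζ = 1 := by
    have h2 : u * (s * s) * u⁻¹ = s * s := by rw [mem_center_iff.1 hs u, mul_assoc, mul_inv_cancel, mul_one]
    have h3 : ζ * ζ * (s * s) = 1 * (s * s) := by
      rw [one_mul]
      calc ζ * ζ * (s * s) = ζ * s * (ζ * s) := by rw [mul_assoc ζ s (ζ * s), ← mul_assoc s ζ s, hz s]; simp only [mul_assoc]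
        _ = u * s * u⁻¹ * (u * s * u⁻¹) := by rw [e]
        _ = s * s := by rw [← h2]; group
    exact mul_right_cancel h3
  have h4 : u ^ 2 * s * (u ^ 2)⁻¹ = s := by
    calc u ^ 2 * s * (u ^ 2)⁻¹ = u * (u * s * u⁻¹) * u⁻¹ := by rw [pow_two]; group
      _ = u * ζ * s * u⁻¹ := by rw [e]; group
      _ = ζ * (u * s * u⁻¹) := by rw [hz u]; group
      _ = s := by rw [e, ← mul_assoc, h1, one_mul]
  exact mem_C.2 (mul_inv_eq_iff_eq_mul.1 h4)

theorem Frame.conj_injective {K : Type*} [Group K] [Finite K] [Fact p.Prime] (H : Frame K p f q a d) (P : Sylow p K)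
    {y : K} (hy : y ≠ 1) {n : ℕ} (hyn : y ^ n = 1) (hn : q.Coprime n) :
    Function.Injective fun u : (P : Subgroup K) => (u : K) * y * (u : K)⁻¹ := by
  intro u v e
  by_contra hne
  set w : K := (v : K)⁻¹ * u
  have hw : w ∈ (P : Subgroup K) := (P : Subgroup K).mul_mem ((P : Subgroup K).inv_mem v.2) u.2
  have hw1 : w ≠ 1 := fun h => hne (Subtype.ext (inv_mul_eq_one.1 h).symm)
  have hcomm : w * y = y * w := by
    have e' : (u : K) * y * (u : K)⁻¹ = v * y * (v : K)⁻¹ := e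
    calc w * y = (v : K)⁻¹ * ((u : K) * y * (u : K)⁻¹) * u := by simp only [w]; group
      _ = y * w := by rw [e']; simp only [w]; group
  have hyP : y ∈ (P : Subgroup K) := H.C_eq P hw hw1 ▸ mem_centralizer_singleton_iff.2 hcomm.symm
  exact hy (orderOf_eq_one_iff.1 (Nat.dvd_one.1 (hn ▸ Nat.dvd_gcd (orderOf_dvd_of_pow_eq_one (H.pow_q P hyP))
    (orderOf_dvd_of_pow_eq_one hyn))))

theorem Hyp.no_regular (H : Hyp G p f q a m₀) (hqo : Odd q) (hq5 : 7 ≤ q) (ha2 : 2 * a = q ^ 2 - 1)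
    (hsz : q % 4 = 3 → ∀ g : G, g ∉ center G →
      cs g = a ∨ cs g = q * ((q - 1) / 2) ∨ cs g = q * (q - 1) ∨ cs g = q * (q + 1))
    (M : Subgroup (G ⧸ center G)) (hMn : M.Normal) (hMc : Nat.card M = q + 1) (hM2 : ∀ x : M, x ^ 2 = 1) : False := by
  classical
  haveI : Fact p.Prime := ⟨H.hp⟩
  haveI : Fact (Nat.Prime 2) := ⟨Nat.prime_two⟩
  have hp2 : p ≠ 2 := fun e => by
    rw [H.hq, e] at hqo
    exact Nat.not_odd_iff_even.2 ((Nat.even_pow' H.hf.ne').2 even_two) hqo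
  have F : Frame (G ⧸ center G) p f q a 2 := H.frame (Or.inr rfl) (fun e => absurd e hp2) ha2
  obtain ⟨P⟩ : Nonempty (Sylow p (G ⧸ center G)) := inferInstance
  obtain ⟨i, hi⟩ := IsPGroup.iff_card.1 (show IsPGroup 2 M from fun x => ⟨1, by simpa using hM2 x⟩)
  rw [hMc] at hi
  obtain ⟨i, rfl⟩ : ∃ t, i = t + 3 := ⟨i - 3, by
    have : ¬ i ≤ 2 := fun h => by
      have := Nat.pow_le_pow_right (show 1 ≤ 2 by norm_num) h
      omega
    omega⟩
  have hi4 : q + 1 = 8 * 2 ^ i := by rw [hi, pow_add]; ring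
  obtain ⟨h, hh⟩ : ∃ h, q = 2 * h + 1 := hqo
  have hhodd : Odd h := ⟨2 * 2 ^ i - 1, by have := Nat.two_pow_pos i; omega⟩
  have hah : a = (q + 1) * h := by
    have : 2 * a = 2 * ((q + 1) * h) := by
      rw [ha2, show q ^ 2 - 1 = (q + 1) * (q - 1) from by simpa using Nat.sq_sub_sq q 1, show q - 1 = 2 * h by omega]
      ring
    omega
  obtain ⟨m, hmM, hm⟩ := (Subgroup.ne_bot_iff_exists_ne_one).1 (fun e : M = ⊥ => by
    rw [e, card_bot] at hMc; omega) |>.elim fun x hx => (⟨x.1, x.2, fun e => hx (Subtype.ext e)⟩ :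
      ∃ m : G ⧸ center G, m ∈ M ∧ m ≠ 1)
  have hm2 : m * m = 1 := by rw [← pow_two]; exact congrArg Subtype.val (hM2 ⟨m, hmM⟩)
  set L := centralizer ({m} : Set (G ⧸ center G))
  have hinj := F.conj_injective P hm (by rw [pow_two]; exact hm2) (Nat.coprime_two_right.2 ⟨h, hh⟩)
  have hLi : L.index = q := by
    let fL : (G ⧸ center G) ⧸ L → {x : M // x ≠ 1} := fun k => Quotient.liftOn' k
      (fun k => ⟨⟨k * m * k⁻¹, hMn.conj_mem m hmM k⟩, fun e => hm (conj_eq_one_iff.1 (congrArg Subtype.val e))⟩)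
      (fun k k' e => by
        rw [QuotientGroup.leftRel_apply, mem_centralizer_singleton_iff] at e
        refine Subtype.ext (Subtype.ext ?_)
        calc k * m * k⁻¹ = k * (m * (k⁻¹ * k')) * k'⁻¹ := by group
          _ = k * (k⁻¹ * k' * m) * k'⁻¹ := by rw [e]
          _ = k' * m * k'⁻¹ := by group)
    have hfi : Function.Injective fL := by
      intro k k' e
      induction k using QuotientGroup.induction_on with
      | H k =>
        induction k' using QuotientGroup.induction_on with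
        | H k' =>
          have e' : k * m * k⁻¹ = k' * m * k'⁻¹ := congrArg (fun x : {x : M // x ≠ 1} => (x : G ⧸ center G)) e
          rw [QuotientGroup.eq, mem_centralizer_singleton_iff]
          calc k⁻¹ * k' * m = k⁻¹ * (k' * m * k'⁻¹) * k' := by group
            _ = k⁻¹ * (k * m * k⁻¹) * k' := by rw [e']
            _ = m * (k⁻¹ * k') := by group
    haveI := Fintype.ofFinite M
    have hM1 : Nat.card {x : M // x ≠ 1} = q := by
      rw [Nat.card_eq_fintype_card, Fintype.card_subtype_compl, Fintype.card_subtype_eq, ← Nat.card_eq_fintype_card,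
        hMc, Nat.add_sub_cancel]
    refine le_antisymm (hM1 ▸ Nat.card_le_card_of_injective fL hfi) ?_
    rw [index_eq_card, ← F.card_sylow P]
    refine Nat.card_le_card_of_injective
      (fun u : (P : Subgroup (G ⧸ center G)) => ((u : G ⧸ center G) : (G ⧸ center G) ⧸ L)) ?_
    intro u v e
    refine hinj ?_
    exact congrArg (fun x : {x : M // x ≠ 1} => (x : G ⧸ center G)) (congrArg fL e)
  have hLc : Nat.card L = a := by
    have h1 := L.card_mul_index
    rw [hLi, F.card, mul_comm] at h1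
    exact Nat.eq_of_mul_eq_mul_left (by omega : 0 < q) h1
  obtain ⟨s, rfl⟩ := QuotientGroup.mk_surjective m
  have hsz2 : s * s ∈ center G := (QuotientGroup.eq_one_iff _).1 (by rw [QuotientGroup.mk_mul]; exact hm2)
  have hsnz : s ∉ center G := fun e => hm ((QuotientGroup.eq_one_iff s).2 e)
  set H0 := img s
  have hHL : H0 ≤ L := by
    rintro _ ⟨c, hc, rfl⟩
    rw [mem_centralizer_singleton_iff]
    show (c : G ⧸ center G) * s = s * c
    rw [← QuotientGroup.mk_mul, ← QuotientGroup.mk_mul, mem_C.1 hc]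
  have hsqL : ∀ l ∈ L, l ^ 2 ∈ H0 := by
    intro l hl
    obtain ⟨u, rfl⟩ := QuotientGroup.mk_surjective l
    rw [← QuotientGroup.mk_pow]
    exact mem_img_iff.2 (sq_mem_C hsz2 (mem_centralizer_singleton_iff.1 hl))
  obtain ⟨hHn, j, hj⟩ := sq_mem_subgroup (H0.subgroupOf L) fun l => mem_subgroupOf.2 (hsqL _ l.2)
  have hcs : cs s = q * 2 ^ j := by
    rw [← index_img, ← relIndex_mul_index hHL, hLi, relIndex, hj, mul_comm]
  have hq0 : 0 < q := by omega
  have hj' : 2 ^ j = q + 1 := by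
    have hev : 2 ∣ 2 ^ j ∨ 2 ^ j = 1 := by
      rcases Nat.eq_zero_or_pos j with rfl | hj0
      · exact Or.inr (pow_zero 2)
      · exact Or.inl (dvd_pow_self 2 hj0.ne')
    have hh3 : 3 ≤ h := by omega
    have hho : ¬ 2 ∣ h := fun h2 => Nat.not_even_iff_odd.2 hhodd (even_iff_two_dvd.2 h2)
    rcases hsz (by omega) s hsnz with e | e | e | e <;> rw [hcs] at e
    · exact absurd (e ▸ H.p_dvd_q.trans (dvd_mul_right q _) : p ∣ a) H.hap
    · have e1 := Nat.eq_of_mul_eq_mul_left hq0 e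
      rw [show (q - 1) / 2 = h by omega] at e1
      rcases hev with h2 | h2
      · exact absurd (e1 ▸ h2) hho
      · omega
    · have e1 := Nat.eq_of_mul_eq_mul_left hq0 e
      rw [show q - 1 = 2 * h by omega] at e1
      rcases Nat.eq_zero_or_pos j with rfl | hj0
      · rw [pow_zero] at e1; omega
      · obtain ⟨j, rfl⟩ : ∃ t, j = t + 1 := ⟨j - 1, by omega⟩
        rw [pow_succ'] at e1
        have e2 := Nat.eq_of_mul_eq_mul_left two_pos e1
        rcases Nat.eq_zero_or_pos j with rfl | hj1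
        · rw [pow_zero] at e2; omega
        · exact absurd (e2 ▸ dvd_pow_self 2 hj1.ne') hho
    · exact Nat.eq_of_mul_eq_mul_left hq0 e
  have hH0c : Nat.card H0 = h := by
    have h1 := (H0.subgroupOf L).card_mul_index
    rw [hj, hj', hLc, Nat.card_congr (subgroupOfEquivOfLe hHL).toEquiv, hah, mul_comm] at h1
    exact Nat.eq_of_mul_eq_mul_left (by omega : 0 < q + 1) h1
  have hMcomm : ∀ x ∈ M, ∀ y ∈ M, x * y = y * x := by
    intro x hx y hy
    have e1 := congrArg Subtype.val (hM2 ⟨x * y, M.mul_mem hx hy⟩)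
    have e2 := congrArg Subtype.val (hM2 ⟨x, hx⟩)
    have e3 := congrArg Subtype.val (hM2 ⟨y, hy⟩)
    simp only [SubgroupClass.coe_pow, OneMemClass.coe_one, pow_two] at e1 e2 e3
    calc x * y = (x * y)⁻¹ := (inv_eq_of_mul_eq_one_right e1).symm
      _ = y * x := by rw [mul_inv_rev, inv_eq_of_mul_eq_one_right e2, inv_eq_of_mul_eq_one_right e3]
  have hML : M ≤ L := fun x hx => mem_centralizer_singleton_iff.2 (hMcomm x hx _ hmM)
  have hcop : Nat.Coprime h (q + 1) := by
    rw [hi]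
    exact Nat.Coprime.pow_right _ (Nat.coprime_two_right.2 hhodd)
  have hdisj : H0 ⊓ M = ⊥ :=
    inf_eq_bot_of_coprime (by rw [hH0c, hMc]; exact hcop)
  have hH0M : H0 ≤ centralizer (M : Set (G ⧸ center G)) := fun y hy => mem_centralizer_iff.2 fun x hx => by
    have h1 : x * y * x⁻¹ * y⁻¹ ∈ H0 ⊓ M := by
      refine ⟨H0.mul_mem ?_ (H0.inv_mem hy), ?_⟩
      · exact mem_subgroupOf.1 (hHn.conj_mem (⟨y, hHL hy⟩ : L) (mem_subgroupOf.2 hy) ⟨x, hML hx⟩)
      · rw [show x * y * x⁻¹ * y⁻¹ = x * (y * x⁻¹ * y⁻¹) by group]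
        exact M.mul_mem hx (hMn.conj_mem _ (M.inv_mem hx) y)
    rw [hdisj, mem_bot] at h1
    calc x * y = x * y * x⁻¹ * y⁻¹ * (y * x) := by group
      _ = y * x := by rw [h1, one_mul]
  have hLM : L = centralizer (M : Set (G ⧸ center G)) := by
    refine (eq_of_le_of_card_ge (centralizer_le (Set.singleton_subset_iff.2 hmM)) ?_).symm
    rw [hLc, hah, mul_comm]
    exact Nat.le_of_dvd Nat.card_pos (hcop.mul_dvd_of_dvd_of_dvd (hH0c ▸ card_dvd_of_le hH0M)
      (hMc ▸ card_dvd_of_le (fun x hx => mem_centralizer_iff.2 fun y hy => hMcomm y hy x hx)))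
  have hLn : L.Normal := by
    haveI := hMn
    rw [hLM]
    infer_instance
  have hpow : ∀ y ∈ H0, y ^ h = 1 := fun y hy =>
    orderOf_dvd_iff_pow_eq_one.1 (hH0c ▸ Subgroup.orderOf_dvd_natCard _ hy)
  obtain ⟨t, ht⟩ := hhodd
  have hH0n : ∀ y ∈ H0, ∀ k : G ⧸ center G, k * y * k⁻¹ ∈ H0 := by
    intro y hy k
    set x := k * y * k⁻¹
    have hxL : x ∈ L := hLn.conj_mem y (hHL hy) k
    have hxh : x ^ h = 1 := by simp only [x, conj_pow, hpow y hy, mul_one, mul_inv_cancel]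
    have e : x = ((x ^ 2) ^ t)⁻¹ := by
      refine eq_inv_of_mul_eq_one_left ?_
      rw [← pow_mul, ← pow_succ', ← ht, hxh]
    rw [e]
    exact H0.inv_mem (H0.pow_mem (hsqL x hxL) t)
  obtain ⟨y, hy⟩ := (Subgroup.ne_bot_iff_exists_ne_one).1 (fun e : H0 = ⊥ => by
    rw [e, card_bot] at hH0c; omega)
  have hinj' := F.conj_injective P (fun e => hy (Subtype.ext e)) (hpow _ y.2) (by
    rw [hh]; exact (Nat.coprime_mul_right_add_left 1 h 2).2 (Nat.coprime_one_left h))
  have := Nat.card_le_card_of_injective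
    (fun u : (P : Subgroup (G ⧸ center G)) => (⟨(u : G ⧸ center G) * y * (u : G ⧸ center G)⁻¹, hH0n _ y.2 _⟩ : H0))
    (fun u v e => hinj' (congrArg Subtype.val e))
  rw [F.card_sylow P, hH0c] at this
  omega

theorem Hyp.recog_odd (H : Hyp G p f q a m₀) (hqo : Odd q) (hq5 : 7 ≤ q) (ha2 : 2 * a = q ^ 2 - 1)
    (hsz : q % 4 = 3 → ∀ g : G, g ∉ center G →
      cs g = a ∨ cs g = q * ((q - 1) / 2) ∨ cs g = q * (q - 1) ∨ cs g = q * (q + 1)) :
    ∃ (F : Type) (_ : Field F) (_ : Fintype F), Fintype.card F = q ∧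
      Nonempty (G ⧸ center G ≃* Matrix.ProjectiveSpecialLinearGroup (Fin 2) F) := by
  haveI : Fact p.Prime := ⟨H.hp⟩
  have hp2 : p ≠ 2 := fun e => by
    rw [H.hq, e] at hqo
    exact Nat.not_odd_iff_even.2 ((Nat.even_pow' H.hf.ne').2 even_two) hqo
  have F : Frame (G ⧸ center G) p f q a 2 := H.frame (Or.inr rfl) (fun e => absurd e hp2) ha2
  obtain ⟨P⟩ : Nonempty (Sylow p (G ⧸ center G)) := inferInstance
  exact CfsgLib.PSLTwoRecog.exists_psl_of_frame P H.hq hqo (by omega) (F.card_sylow P)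
    (fun x hx hx1 => F.C_eq P hx hx1) (F.sylow_data P).1 (F.sylow_data P).2
    fun M hn hc h2 => H.no_regular hqo hq5 ha2 hsz M hn hc h2

end CfsgLib.PSLClass
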