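import Cfsg.Agent.PSLClass.Basic
import Mathlib.GroupTheory.Perm.Cycle.Type

/-!
# The order of the central quotient and the centralizers of its `p`-elements
-/

set_option autoImplicit false
set_option linter.unusedSectionVars false
set_option linter.style.haveILetI false

namespace CfsgLib.PSLClass

open Subgroup

variable {G : Type*} [Group G] [Finite G] {p f q a m₀ : ℕ}

/-- A class size isolated for divisibility. -/
def Isol (G : Type*) [Group G] (v : ℕ) : Prop :=
  ∀ h : G, h ∉ center G → (cs h ∣ v ∨ v ∣ cs h) → cs h = v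

theorem Isol.eq_of_le {v : ℕ} (hI : Isol G v) {g h : G} (hg : cs g = v) (hh : h ∉ center G) (hle : C g ≤ C h) :
    C h = C g := by
  have h1 : cs h ∣ v := hg ▸ index_dvd_of_le hle
  exact (C_eq_of_le_of_cs hle (hg.trans (hI h hh (Or.inl h1)).symm)).symm

theorem Isol.eq_of_ge {v : ℕ} (hI : Isol G v) {g h : G} (hg : cs g = v) (hh : h ∉ center G) (hle : C h ≤ C g) :
    C h = C g := by
  have h1 : v ∣ cs h := hg ▸ index_dvd_of_le hle
  exact C_eq_of_le_of_cs hle ((hI h hh (Or.inr h1)).trans hg.symm)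

/-- A commuting element of coprime prime power order has the same centralizer. -/
theorem Isol.coprime_part {v : ℕ} (hI : Isol G v) {g w : G} (hg : g ∉ center G) (hv : cs g = v) {r k s l : ℕ}
    (hr : r.Prime) (hgo : orderOf g = r ^ k) (hw : w ∈ C g) (hs : s.Prime) (hwo : orderOf w = s ^ l) (hrs : r ≠ s)
    (hwz : w ∉ center G) : C w = C g := by
  have hc : Commute g w := (mem_C.1 hw).symm
  obtain ⟨hg1, hw1⟩ := zpowers_mul_of_coprime hc
    (by rw [hgo, hwo]; exact Nat.Coprime.pow _ _ ((Nat.coprime_primes hr hs).2 hrs))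
  have hgw : g * w ∉ center G := fun h => hg (zpowers_le.2 h hg1)
  have e := hI.eq_of_ge hv hgw (C_le_C_of_mem_zpowers hg1)
  exact hI.eq_of_le hv hwz (e ▸ C_le_C_of_mem_zpowers hw1)

namespace Hyp

variable (H : Hyp G p f q a m₀)
include H

theorem p_dvd_q : p ∣ q := H.hq ▸ dvd_pow_self p H.hf.ne'

theorem q_not_dvd_a : ¬ q ∣ a := fun h => H.hap (H.p_dvd_q.trans h)

theorem isol_a : Isol G a := H.isolA

theorem isol_s : Isol G (q * m₀) := H.isolS

/-- A Sylow subgroup inside a centralizer of index prime to `r`. -/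
theorem exists_sylow_le_C {r : ℕ} [Fact r.Prime] {g : G} (h : ¬ r ∣ cs g) :
    ∃ R : Sylow r G, (R : Subgroup G) ≤ C g := by
  obtain ⟨R0⟩ : Nonempty (Sylow r (C g)) := inferInstance
  have hm : IsPGroup r ((R0 : Subgroup (C g)).map (C g).subtype) := R0.2.map _
  have hi : ¬ r ∣ ((R0 : Subgroup (C g)).map (C g).subtype).index := by
    rw [index_map_subtype, (Fact.out : r.Prime).dvd_mul, not_or]
    exact ⟨R0.not_dvd_index, h⟩
  exact ⟨hm.toSylow hi, map_subtype_le _⟩

theorem exists_pA : ∃ x : G, x ∉ center G ∧ cs x = a ∧ ∃ k, orderOf x = p ^ k := by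
  haveI : Fact p.Prime := ⟨H.hp⟩
  obtain ⟨g, hg, hga⟩ := H.exA
  obtain ⟨u, hu, huz, r, k, hr, hk⟩ := exists_part hg
  have hCu := H.isol_a.eq_of_le hga huz (C_le_C_of_mem_zpowers hu)
  have hua : cs u = a := (congrArg Subgroup.index hCu).trans hga
  by_cases hrp : r = p
  · exact ⟨u, huz, hua, k, hrp ▸ hk⟩
  obtain ⟨R, hR⟩ := H.exists_sylow_le_C (r := p) (g := u) (hua ▸ H.hap)
  have : ¬ (R : Subgroup G) ≤ center G := by
    intro hle
    obtain ⟨g0, -, hg0⟩ := H.exS
    have h1 : cs g0 ∣ (R : Subgroup G).index := index_dvd_of_le (hle.trans (center_le_C g0))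
    rw [hg0] at h1
    exact R.not_dvd_index ((H.p_dvd_q.trans (dvd_mul_right q m₀)).trans h1)
  obtain ⟨y, hyR, hyz⟩ := SetLike.not_le_iff_exists.1 this
  obtain ⟨l, hl⟩ := IsPGroup.iff_orderOf.1 R.2 ⟨y, hyR⟩
  rw [Subgroup.orderOf_mk] at hl
  have e := H.isol_a.coprime_part huz hua hr hk (hR hyR) H.hp hl hrp hyz
  exact ⟨y, hyz, (congrArg Subgroup.index e).trans hua, l, hl⟩

/-- In the centralizer of a `p`-element of class size `a` the `p'`-elements are central. -/
theorem aPart {x : G} (hx : x ∉ center G) (hxa : cs x = a) {k : ℕ} (hxo : orderOf x = p ^ k) {w : G} (hw : w ∈ C x)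
    {r l : ℕ} (hr : r.Prime) (hwo : orderOf w = r ^ l) (hrp : r ≠ p) : w ∈ center G := by
  by_contra hwz
  have hCw : C w = C x := H.isol_a.coprime_part hx hxa H.hp hxo hw hr hwo (Ne.symm hrp) hwz
  have hwa : cs w = a := (congrArg Subgroup.index hCw).trans hxa
  have hab : ∀ c ∈ C x, C x ≤ C c := by
    intro c hc
    have : c ∈ centralizer (C x : Set G) := by
      refine mem_of_primary _ c fun t ht s m hs hm => ?_
      have htx : t ∈ C x := zpowers_le.2 hc ht
      by_cases htz : t ∈ center G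
      · exact center_le_centralizer _ htz
      have hCt : C t = C x := by
        by_cases hsp : s = p
        · rw [H.isol_a.coprime_part hwz hwa hr hwo (hCw ▸ htx) hs hm (hsp ▸ hrp) htz, hCw]
        · exact H.isol_a.coprime_part hx hxa H.hp hxo htx hs hm (Ne.symm hsp) htz
      exact mem_centralizer_iff.2 fun y hy => mem_C.1 (hCt ▸ hy)
    exact fun y hy => mem_C.2 (mem_centralizer_iff.1 this y hy)
  haveI : Fact r.Prime := ⟨hr⟩
  obtain ⟨z, hz, hza, hzr⟩ := H.avoid r hr hrp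
  obtain ⟨R, hR⟩ := H.exists_sylow_le_C hzr
  obtain ⟨R', hR'⟩ := (IsPGroup.of_card (n := l) (by rw [Nat.card_zpowers, hwo]) :
    IsPGroup r (zpowers w)).exists_le_sylow
  obtain ⟨c, hc⟩ := MulAction.exists_smul_eq G R' R
  have hcw : c * w * c⁻¹ ∈ C z := hR (by
    rw [← hc]
    rw [Sylow.smul_def, Sylow.pointwise_smul_def]
    exact ⟨w, hR' (mem_zpowers w), rfl⟩)
  have hz' : c⁻¹ * z * c ∈ C x := hCw ▸ mem_C.2 (by
    calc c⁻¹ * z * c * w = c⁻¹ * (z * (c * w * c⁻¹)) * c := by group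
      _ = c⁻¹ * (c * w * c⁻¹ * z) * c := by rw [(mem_C.1 hcw).symm]
      _ = w * (c⁻¹ * z * c) := by group)
  have hz'z : c⁻¹ * z * c ∉ center G := by
    have h1 := conj_not_center (c := c⁻¹) hz
    rwa [inv_inv] at h1
  have e := H.isol_a.eq_of_le hxa hz'z (hab _ hz')
  have h2 := cs_conj c⁻¹ z
  rw [inv_inv] at h2
  exact hza (h2.symm.trans ((congrArg Subgroup.index e).trans hxa))

end Hyp

/-- The image of a centralizer in the central quotient. -/
abbrev img (g : G) : Subgroup (G ⧸ center G) := (C g).map (QuotientGroup.mk' (center G))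

theorem index_img (g : G) : (img g).index = cs g :=
  index_map_eq _ (QuotientGroup.mk'_surjective _) (by rw [QuotientGroup.ker_mk']; exact center_le_C g)

theorem mem_img_iff {g c : G} : (c : G ⧸ center G) ∈ img g ↔ c ∈ C g := by
  constructor
  · rintro ⟨d, hd, e⟩
    have h := QuotientGroup.eq.1 (e : (d : G ⧸ center G) = c)
    have := (C g).mul_mem hd (center_le_C g h)
    rwa [mul_inv_cancel_left] at this
  · exact fun h => ⟨c, h, rfl⟩

/-- An element is central when its `r'`-power is and it is an `r`-element. -/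
theorem mem_of_coprime_pow {S : Subgroup G} {u : G} {n : ℕ} (hc : (orderOf u).Coprime n) (h : u ^ n ∈ S) : u ∈ S := by
  obtain ⟨m, hm⟩ := exists_pow_eq_self_of_coprime hc.symm
  rw [← hm]
  exact S.pow_mem h m

/-- When the `p'`-elements of a centralizer are central, its image is a `p`-group. -/
theorem isPGroup_img [Fact p.Prime] (g : G)
    (h : ∀ w ∈ C g, ∀ r l : ℕ, r.Prime → orderOf w = r ^ l → r ≠ p → w ∈ center G) : IsPGroup p (img g) := by
  rintro ⟨_, c, hc, rfl⟩
  obtain ⟨k, m, hm, hkm⟩ := Nat.exists_eq_pow_mul_and_not_dvd (orderOf_pos c).ne' p (Fact.out : p.Prime).ne_one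
  refine ⟨k, Subtype.ext ?_⟩
  rw [Subgroup.coe_pow, Subgroup.coe_one]
  show ((c ^ p ^ k : G) : G ⧸ center G) = 1
  rw [QuotientGroup.eq_one_iff]
  refine mem_of_primary _ _ fun u hu r l hr hl => ?_
  by_cases hrp : r = p
  · have hd : orderOf u ∣ m := by
      have h1 : orderOf u ∣ orderOf (c ^ p ^ k) := orderOf_dvd_of_mem_zpowers hu
      have hp0 : 0 < p ^ k := pow_pos (Fact.out : p.Prime).pos k
      rwa [orderOf_pow' c hp0.ne', hkm, Nat.gcd_mul_right_left, Nat.mul_div_cancel_left _ hp0] at h1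
    rcases Nat.eq_zero_or_pos l with rfl | hl0
    · rw [pow_zero] at hl
      rw [orderOf_eq_one_iff.1 hl]; exact one_mem _
    · exact absurd (((dvd_pow_self r hl0.ne').trans (hl ▸ hd))) (hrp ▸ hm)
  · exact h u (zpowers_le.2 ((C g).pow_mem hc _) hu) r l hr hl hrp

/-- A non-central element with image of order `p` yields a non-central `p`-element. -/
theorem exists_pPart [Fact p.Prime] {c : G} (hc : c ∉ center G) {n : ℕ} (hn : c ^ p ^ n ∈ center G) :
    ∃ y ∈ zpowers c, y ∉ center G ∧ ∃ l, orderOf y = p ^ l := by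
  obtain ⟨u, hu, huz, r, l, hr, hl⟩ := exists_part hc
  refine ⟨u, hu, huz, l, ?_⟩
  by_cases hrp : r = p
  · rw [← hrp, hl]
  obtain ⟨i, rfl⟩ := mem_zpowers_iff.1 hu
  have hco : (orderOf (c ^ i)).Coprime (p ^ n) :=
    hl ▸ Nat.Coprime.pow l n ((Nat.coprime_primes hr Fact.out).2 hrp)
  refine absurd (mem_of_coprime_pow hco ?_) huz
  rw [← zpow_natCast, zpow_comm, zpow_natCast]
  exact (center G).zpow_mem hn i

namespace Hyp

variable (H : Hyp G p f q a m₀)
include H

theorem no_pS {u : G} (hu : u ∉ center G) {k : ℕ} (huo : orderOf u = p ^ k) : cs u ≠ q * m₀ := by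
  intro hus
  haveI : Fact p.Prime := ⟨H.hp⟩
  obtain ⟨x, hx, hxa, j, hxo⟩ := H.exists_pA
  obtain ⟨R, hR⟩ := H.exists_sylow_le_C (r := p) (g := x) (hxa ▸ H.hap)
  obtain ⟨S, hS⟩ := (IsPGroup.of_card (n := k) (by rw [Nat.card_zpowers, huo]) :
    IsPGroup p (zpowers u)).exists_le_sylow
  obtain ⟨c, hc⟩ := MulAction.exists_smul_eq G S R
  have hcu : c * u * c⁻¹ ∈ C x := hR (by
    rw [← hc]
    rw [Sylow.smul_def, Sylow.pointwise_smul_def]
    exact ⟨u, hS (mem_zpowers u), rfl⟩)
  have hvo : orderOf (c * u * c⁻¹) = p ^ k := by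
    rw [← MulAut.conj_apply, MulEquiv.orderOf_eq, huo]
  set v := c * u * c⁻¹
  have hv : v ∉ center G := conj_not_center hu
  have hvs : cs v = q * m₀ := (cs_conj c u).trans hus
  have hC : IsPGroup p (img v) := isPGroup_img v fun w hw r l hr hl hrp => by
    by_contra hwz
    have e := H.isol_s.coprime_part hv hvs H.hp hvo hw hr hl (Ne.symm hrp) hwz
    exact hwz (H.aPart hx hxa hxo (mem_C_comm (e.ge (mem_C_comm hcu))) hr hl hrp)
  have hCx : IsPGroup p (img x) := isPGroup_img x fun w hw r l hr hl hrp => H.aPart hx hxa hxo hw hr hl hrp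
  obtain ⟨i, hi⟩ := IsPGroup.iff_card.1 hCx
  obtain ⟨j, hj⟩ := IsPGroup.iff_card.1 hC
  have h1 := (img x).card_mul_index
  have h2 := (img v).card_mul_index
  rw [index_img, hi, hxa] at h1
  rw [index_img, hj, hvs, ← h1, H.hq, ← mul_assoc, ← pow_add] at h2
  have e1 : m₀ ∣ a := (((Nat.Prime.coprime_iff_not_dvd H.hp).2 H.hm₀).pow_left i).symm.dvd_of_dvd_mul_left
    (h2 ▸ dvd_mul_left m₀ _)
  have e2 : a ∣ m₀ := (((Nat.Prime.coprime_iff_not_dvd H.hp).2 H.hap).pow_left (j + f)).symm.dvd_of_dvd_mul_left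
    (h2 ▸ dvd_mul_left a _)
  exact H.m₀lt.ne (Nat.dvd_antisymm e1 e2)

theorem card_quot : Nat.card (G ⧸ center G) = q * a := by
  haveI : Fact p.Prime := ⟨H.hp⟩
  obtain ⟨x, hx, hxa, j, hxo⟩ := H.exists_pA
  obtain ⟨i, hi⟩ := IsPGroup.iff_card.1
    (isPGroup_img x fun w hw r l hr hl hrp => H.aPart hx hxa hxo hw hr hl hrp)
  obtain ⟨g, hg, hgs⟩ := H.exS
  obtain ⟨u, hu, huz, r, k, hr, hk⟩ := exists_part hg
  have hus : cs u = q * m₀ :=
    (congrArg Subgroup.index (H.isol_s.eq_of_le hgs huz (C_le_C_of_mem_zpowers hu))).trans hgs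
  have hrp : r ≠ p := fun e => H.no_pS huz (e ▸ hk) hus
  have ht : ¬ p ∣ Nat.card (img u) := fun hd => by
    obtain ⟨⟨_, c, hc, rfl⟩, hy⟩ := exists_prime_orderOf_dvd_card' (G := img u) p hd
    replace hy : orderOf (QuotientGroup.mk' (center G) c) = p := (Subgroup.orderOf_coe _).trans hy
    have hcz : c ∉ center G := fun h => by
      rw [QuotientGroup.mk'_apply, (QuotientGroup.eq_one_iff c).2 h, orderOf_one] at hy
      exact H.hp.one_lt.ne hy
    have hcp : c ^ p ^ 1 ∈ center G := (QuotientGroup.eq_one_iff _).1 (by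
      rw [pow_one, QuotientGroup.mk_pow, ← hy]
      exact pow_orderOf_eq_one _)
    obtain ⟨y, hyc, hyz, l, hl⟩ := exists_pPart hcz hcp
    exact H.no_pS hyz hl ((congrArg Subgroup.index (H.isol_s.coprime_part huz hus hr hk (zpowers_le.2 hc hyc)
      H.hp hl hrp hyz)).trans hus)
  have h1 := (img x).card_mul_index
  have h2 := (img u).card_mul_index
  rw [index_img, hi, hxa] at h1
  rw [index_img, hus, ← h1] at h2
  have e1 : q ∣ p ^ i :=
    (show q.Coprime a from H.hq ▸ ((Nat.Prime.coprime_iff_not_dvd H.hp).2 H.hap).pow_left f).dvd_of_dvd_mul_right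
      (h2 ▸ Dvd.intro (m₀ * Nat.card (img u)) (by ring))
  have e2 : p ^ i ∣ q := by
    have hco : (p ^ i).Coprime (Nat.card (img u) * m₀) :=
      ((Nat.Prime.coprime_iff_not_dvd H.hp).2 fun hd => (H.hp.dvd_mul.1 hd).elim ht H.hm₀).pow_left i
    exact hco.dvd_of_dvd_mul_right ⟨a, by rw [← h2]; ring⟩
  rw [← h1, Nat.dvd_antisymm e2 e1]

theorem cs_pElem {y : G} (hy : y ∉ center G) {k : ℕ} (hyo : orderOf y = p ^ k) : cs y = a := by
  haveI : Fact p.Prime := ⟨H.hp⟩
  refine (H.sizes y hy).resolve_right fun ⟨t, ht⟩ => ?_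
  have hd : p ∣ Nat.card (img y) := by
    have hne : (y : G ⧸ center G) ≠ 1 := fun e => hy ((QuotientGroup.eq_one_iff y).1 e)
    have h1 : orderOf (y : G ⧸ center G) ∣ p ^ k := hyo ▸ orderOf_map_dvd (QuotientGroup.mk' (center G)) y
    obtain ⟨i, -, hi⟩ := (Nat.dvd_prime_pow H.hp).1 h1
    have hi0 : i ≠ 0 := by rintro rfl; rw [pow_zero, orderOf_eq_one_iff] at hi; exact hne hi
    exact (hi ▸ dvd_pow_self p hi0).trans (Subgroup.orderOf_dvd_natCard _ (mem_img_iff.2 (self_mem_C y)))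
  have h1 := (img y).card_mul_index
  rw [index_img, ht, H.card_quot] at h1
  obtain ⟨s, hs⟩ := hd
  rw [hs] at h1
  have hq0 : 0 < q := H.hq ▸ pow_pos H.hp.pos f
  exact H.hap ⟨s * t, Nat.eq_of_mul_eq_mul_left hq0 (by rw [← h1]; ring)⟩

theorem card_img {y : G} (hy : y ∉ center G) {k : ℕ} (hyo : orderOf y = p ^ k) : Nat.card (img y) = q := by
  have h1 := (img y).card_mul_index
  rw [index_img, H.cs_pElem hy hyo, H.card_quot] at h1
  refine Nat.eq_of_mul_eq_mul_right (Nat.pos_of_ne_zero fun e => ?_) h1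
  exact H.hap (e ▸ dvd_zero p)

theorem isPGroup_img' {y : G} (hy : y ∉ center G) {k : ℕ} (hyo : orderOf y = p ^ k) : IsPGroup p (img y) := by
  haveI : Fact p.Prime := ⟨H.hp⟩
  exact IsPGroup.of_card ((H.card_img hy hyo).trans H.hq)

/-- Elements commuting modulo the centre with a `p`-element commute with it. -/
theorem C_eq_comap {y : G} (hy : y ∉ center G) {k : ℕ} (hyo : orderOf y = p ^ k) {c : G}
    (hc : (c : G ⧸ center G) * y = y * c) : c ∈ C y := by
  haveI : Fact p.Prime := ⟨H.hp⟩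
  refine mem_of_primary _ c fun t ht r l hr hl => ?_
  obtain ⟨i, rfl⟩ := mem_zpowers_iff.1 ht
  have hct : ((c ^ i : G) : G ⧸ center G) * y = y * ((c ^ i : G) : G ⧸ center G) := by
    rw [QuotientGroup.mk_zpow]
    exact ((show Commute (c : G ⧸ center G) y from hc).zpow_left i).eq
  set t := c ^ i
  obtain ⟨ζ, hζ, e⟩ : ∃ ζ ∈ center G, t * y * t⁻¹ = ζ * y := ⟨t * y * t⁻¹ * y⁻¹, by
    rw [← QuotientGroup.eq_one_iff]
    simp only [QuotientGroup.mk_mul, QuotientGroup.mk_inv, hct]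
    group, by group⟩
  by_cases hrp : r = p
  · refine mem_img_iff.1 ?_
    have hnorm : (t : G ⧸ center G) ∈ normalizer (img y : Set (G ⧸ center G)) := by
      rw [mem_normalizer_iff]
      intro v
      obtain ⟨d, rfl⟩ := QuotientGroup.mk'_surjective (center G) v
      show (d : G ⧸ center G) ∈ img y ↔ (t : G ⧸ center G) * d * (t : G ⧸ center G)⁻¹ ∈ img y
      rw [← QuotientGroup.mk_inv, ← QuotientGroup.mk_mul, ← QuotientGroup.mk_mul, mem_img_iff, mem_img_iff, mem_C,
        mem_C]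
      have hz : ∀ v : G, v * ζ = ζ * v := mem_center_iff.1 hζ
      constructor
      · intro h
        have h' : t * d * t⁻¹ * (ζ * y) = ζ * y * (t * d * t⁻¹) := by
          rw [← e]
          calc t * d * t⁻¹ * (t * y * t⁻¹) = t * (d * y) * t⁻¹ := by group
            _ = t * y * t⁻¹ * (t * d * t⁻¹) := by rw [h]; group
        rw [← mul_assoc, hz, mul_assoc, mul_assoc ζ y] at h'
        exact mul_left_cancel h'
      · intro h
        have h' : t * d * t⁻¹ * (t * y * t⁻¹) = t * y * t⁻¹ * (t * d * t⁻¹) := by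
          rw [e, ← mul_assoc, hz, mul_assoc, h, mul_assoc ζ y]
        have h'' : t * (d * y) * t⁻¹ = t * (y * d) * t⁻¹ := by
          calc t * (d * y) * t⁻¹ = t * d * t⁻¹ * (t * y * t⁻¹) := by group
            _ = t * y * t⁻¹ * (t * d * t⁻¹) := h'
            _ = t * (y * d) * t⁻¹ := by group
        exact mul_left_cancel (mul_right_cancel h'')
    have hP : ¬ p ∣ (img y).index := by rw [index_img, H.cs_pElem hy hyo]; exact H.hap
    have ht' : IsPGroup p (zpowers (t : G ⧸ center G)) := by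
      obtain ⟨j, -, hj⟩ := (Nat.dvd_prime_pow H.hp).1
        ((hrp ▸ hl) ▸ orderOf_map_dvd (QuotientGroup.mk' (center G)) t)
      exact IsPGroup.of_card (n := j) (by rw [Nat.card_zpowers]; exact hj)
    have hsup := ht'.to_sup_of_normal_right' (H.isPGroup_img' hy hyo) (zpowers_le.2 hnorm)
    exact ((H.isPGroup_img' hy hyo).toSylow hP).is_maximal' hsup le_sup_right |>.le
      (mem_sup_left (mem_zpowers _))
  · have hzc : Commute ζ y := (mem_center_iff.1 hζ y).symm
    have h1 : ζ ^ p ^ k = 1 := by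
      have h2 := congrArg (fun v => v ^ p ^ k) e
      simp only [conj_pow, hzc.mul_pow, ← hyo, pow_orderOf_eq_one, mul_one, mul_inv_cancel] at h2
      rw [← hyo]
      exact h2.symm
    have h2 : ∀ n : ℕ, t ^ n * y * (t ^ n)⁻¹ = ζ ^ n * y := by
      intro n
      induction n with
      | zero => simp
      | succ n ih =>
        have hz : ∀ v : G, v * ζ ^ n = ζ ^ n * v := mem_center_iff.1 (pow_mem hζ n)
        rw [pow_succ', mul_inv_rev]
        calc t * t ^ n * y * ((t ^ n)⁻¹ * t⁻¹) = t * (t ^ n * y * (t ^ n)⁻¹) * t⁻¹ := by group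
          _ = t * (ζ ^ n * y) * t⁻¹ := by rw [ih]
          _ = ζ ^ n * (t * y * t⁻¹) := by rw [← mul_assoc, hz]; group
          _ = ζ ^ (n + 1) * y := by rw [e, ← mul_assoc, pow_succ]
    have h3 : ζ ^ r ^ l = 1 := by
      have := h2 (r ^ l)
      rw [← hl, pow_orderOf_eq_one] at this
      rw [← hl]
      simpa using this.symm
    have h4 : orderOf ζ ∣ 1 := by
      rw [← Nat.Coprime.pow l k ((Nat.coprime_primes hr H.hp).2 hrp)]
      exact Nat.dvd_gcd (orderOf_dvd_of_pow_eq_one h3) (orderOf_dvd_of_pow_eq_one h1)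
    rw [orderOf_eq_one_iff.1 (Nat.dvd_one.1 h4), one_mul, mul_inv_eq_iff_eq_mul] at e
    exact mem_C.2 e

/-- The centralizer in the central quotient of a non-trivial `p`-element has order `q`. -/
theorem card_centralizer {k : G ⧸ center G} (hk : k ≠ 1) {n : ℕ} (hkn : k ^ p ^ n = 1) :
    Nat.card (centralizer ({k} : Set (G ⧸ center G))) = q := by
  haveI : Fact p.Prime := ⟨H.hp⟩
  obtain ⟨c, rfl⟩ := QuotientGroup.mk'_surjective (center G) k
  obtain ⟨i, m, hm, hkm⟩ := Nat.exists_eq_pow_mul_and_not_dvd (orderOf_pos c).ne' p H.hp.ne_one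
  have hm0 : m ≠ 0 := fun e => hm (e ▸ dvd_zero p)
  have hyo : orderOf (c ^ m) = p ^ i := by
    rw [orderOf_pow' c hm0, hkm, Nat.gcd_mul_left_left, Nat.mul_div_cancel _ (Nat.pos_of_ne_zero hm0)]
  have hco : (orderOf (c : G ⧸ center G)).Coprime m :=
    (((Nat.Prime.coprime_iff_not_dvd H.hp).2 hm).pow_left n).coprime_dvd_left (orderOf_dvd_of_pow_eq_one hkn)
  have hy : c ^ m ∉ center G := fun h => hk (by
    have h1 : (c : G ⧸ center G) ^ m = 1 := by rw [← QuotientGroup.mk_pow]; exact (QuotientGroup.eq_one_iff _).2 h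
    exact orderOf_eq_one_iff.1 (Nat.dvd_one.1 (hco ▸ Nat.dvd_gcd dvd_rfl (orderOf_dvd_of_pow_eq_one h1))))
  obtain ⟨j, hj⟩ := exists_pow_eq_self_of_coprime hco.symm
  rw [← H.card_img hy hyo]
  congr 2
  apply le_antisymm
  · intro v hv
    obtain ⟨d, rfl⟩ := QuotientGroup.mk'_surjective (center G) v
    refine mem_img_iff.2 (H.C_eq_comap hy hyo ?_)
    rw [QuotientGroup.mk_pow]
    exact ((show Commute (d : G ⧸ center G) c from mem_centralizer_singleton_iff.1 hv).pow_right m).eq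
  · rintro _ ⟨d, hd, rfl⟩
    rw [mem_centralizer_singleton_iff]
    show (d : G ⧸ center G) * c = c * d
    rw [← hj, ← QuotientGroup.mk_pow]
    refine ((show Commute (d : G ⧸ center G) ((c ^ m : G) : G ⧸ center G) from ?_).pow_right j).eq
    show (d : G ⧸ center G) * _ = _ * d
    rw [← QuotientGroup.mk_mul, ← QuotientGroup.mk_mul, mem_C.1 hd]

end Hyp

end CfsgLib.PSLClass
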